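import Mathlib

/-!
Fixed points of a coprime automorphism of prime order in the subgroup generated by the elements `h⁻¹ · xⁱ h`:
definitions and general reductions.
-/

set_option autoImplicit false
set_option linter.unusedSectionVars false
set_option linter.style.haveILetI false

namespace CfsgLib.FixGen

open Subgroup
open scoped commutatorElement IsMulCommutative

universe u
variable {H : Type u} [Group H]

/-- Invariance. -/
def Inv (x : MulAut H) (K : Subgroup H) : Prop := ∀ k ∈ K, x k ∈ K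

/-- Generated by the elements `k⁻¹ · xⁱ k`, `k ∈ P`. -/
def brk (x : MulAut H) (P : Set H) : Subgroup H := closure {c : H | ∃ k ∈ P, ∃ i : ℕ, c = k⁻¹ * (x ^ i) k}

/-- The subgroup `[h, x]`. -/
def dif (x : MulAut H) (h : H) : Subgroup H := closure {c : H | ∃ i : ℕ, c = h⁻¹ * (x ^ i) h}

/-- The orbit span. -/
def orb (x : MulAut H) (h : H) : Subgroup H := closure (Set.range fun i : ℕ => (x ^ i) h)

/-- The fixed points. -/
def fx (x : MulAut H) : Subgroup H := (x : H →* H).eqLocus (MonoidHom.id H)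

/-- What the fixed points in the `[h, x]` generate. -/
def sig (x : MulAut H) : Subgroup H := ⨆ h : H, dif x h ⊓ fx x

/-- The statement. -/
def Ok (x : MulAut H) : Prop := brk x (⊤ : Subgroup H) ⊓ fx x ≤ sig x

variable {x : MulAut H}

theorem mem_fx {c : H} : c ∈ fx x ↔ x c = c := Iff.rfl

theorem fx_pow {c : H} (hc : c ∈ fx x) (i : ℕ) : (x ^ i) c = c := by
  induction i with
  | zero => rfl
  | succ i ih => rw [pow_succ, MulAut.mul_apply, mem_fx.mp hc, ih]

theorem pow_apply_comm (i : ℕ) (h : H) : x ((x ^ i) h) = (x ^ (i + 1)) h := by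
  rw [pow_succ', MulAut.mul_apply]

theorem Inv.pow {K : Subgroup H} (hK : Inv x K) (i : ℕ) : ∀ k ∈ K, (x ^ i) k ∈ K := by
  induction i with
  | zero => exact fun k hk => hk
  | succ i ih => intro k hk; rw [pow_succ, MulAut.mul_apply]; exact ih _ (hK k hk)

theorem inv_closure {S : Set H} (h : ∀ s ∈ S, x s ∈ closure S) : Inv x (closure S) := fun k hk => by
  have : closure S ≤ (closure S).comap (x : H →* H) := (closure_le _).mpr h
  exact this hk

theorem Inv.top : Inv x (⊤ : Subgroup H) := fun _ _ => mem_top _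

theorem Inv.sup {A B : Subgroup H} (hA : Inv x A) (hB : Inv x B) : Inv x (A ⊔ B) := fun k hk => by
  have : A ⊔ B ≤ (A ⊔ B).comap (x : H →* H) :=
    sup_le (fun a ha => mem_sup_left (hA a ha)) (fun b hb => mem_sup_right (hB b hb))
  exact this hk

theorem Inv.inf {A B : Subgroup H} (hA : Inv x A) (hB : Inv x B) : Inv x (A ⊓ B) :=
  fun k hk => ⟨hA k hk.1, hB k hk.2⟩

theorem Inv.commutator {A B : Subgroup H} (hA : Inv x A) (hB : Inv x B) : Inv x ⁅A, B⁆ := fun k hk => by
  have : ⁅A, B⁆ ≤ (⁅A, B⁆).comap (x : H →* H) := commutator_le.mpr fun a ha b hb => by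
    show x ⁅a, b⁆ ∈ ⁅A, B⁆
    rw [map_commutatorElement]
    exact commutator_mem_commutator (hA a ha) (hB b hb)
  exact this hk

theorem Inv.map_eq [Finite H] {K : Subgroup H} (hK : Inv x K) : K.map (x : H →* H) = K := by
  refine Subgroup.eq_of_le_of_card_ge ?_ ?_
  · rintro _ ⟨k, hk, rfl⟩; exact hK k hk
  · exact (card_map_of_injective x.injective).ge

theorem Inv.center : Inv x (Subgroup.center H) := fun z hz => mem_center_iff.mpr fun g => by
  obtain ⟨g, rfl⟩ := x.surjective g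
  rw [← map_mul, mem_center_iff.mp hz g, map_mul]

theorem Inv.centralizer [Finite H] {K : Subgroup H} (hK : Inv x K) : Inv x (Subgroup.centralizer (K : Set H)) :=
  fun z hz => mem_centralizer_iff.mpr fun g hg => by
    rw [SetLike.mem_coe, ← hK.map_eq] at hg
    obtain ⟨g, hg', rfl⟩ := hg
    show x g * x z = x z * x g
    rw [← map_mul, mem_centralizer_iff.mp hz g hg', map_mul]

theorem inv_fx : Inv x (fx x) := fun c hc => by
  show x (x c) = x c
  rw [show x c = c from hc]; exact hc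

theorem brk_mono {P Q : Set H} (h : P ⊆ Q) : brk x P ≤ brk x Q :=
  closure_mono fun _ ⟨k, hk, i, e⟩ => ⟨k, h hk, i, e⟩

theorem mem_brk {P : Set H} {k : H} (hk : k ∈ P) (i : ℕ) : k⁻¹ * (x ^ i) k ∈ brk x P :=
  subset_closure ⟨k, hk, i, rfl⟩

theorem mem_dif (k : H) (i : ℕ) : k⁻¹ * (x ^ i) k ∈ dif x k := subset_closure ⟨i, rfl⟩

theorem dif_le_brk {P : Set H} {k : H} (hk : k ∈ P) : dif x k ≤ brk x P :=
  (closure_le _).mpr fun _ ⟨i, e⟩ => e ▸ mem_brk hk i

theorem brk_le {P : Set H} {M : Subgroup H} (h : ∀ k ∈ P, dif x k ≤ M) : brk x P ≤ M :=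
  (closure_le _).mpr fun _ ⟨k, hk, i, e⟩ => e ▸ h k hk (mem_dif k i)

theorem brk_le_self {K : Subgroup H} (hK : Inv x K) : brk x K ≤ K :=
  (closure_le _).mpr fun _ ⟨k, hk, i, e⟩ => e ▸ mul_mem (inv_mem hk) (hK.pow i k hk)

theorem inv_dif (k : H) : Inv x (dif x k) := inv_closure fun s ⟨i, e⟩ => by
  rw [e, map_mul, map_inv, pow_apply_comm,
    show (x k)⁻¹ * (x ^ (i + 1)) k = (k⁻¹ * (x ^ 1) k)⁻¹ * (k⁻¹ * (x ^ (i + 1)) k) by rw [pow_one]; group]
  exact mul_mem (inv_mem (mem_dif k 1)) (mem_dif k _)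

theorem inv_brk (P : Set H) : Inv x (brk x P) := inv_closure fun s ⟨k, hk, i, e⟩ => by
  rw [e, map_mul, map_inv, pow_apply_comm,
    show (x k)⁻¹ * (x ^ (i + 1)) k = (k⁻¹ * (x ^ 1) k)⁻¹ * (k⁻¹ * (x ^ (i + 1)) k) by rw [pow_one]; group]
  exact mul_mem (inv_mem (mem_brk hk 1)) (mem_brk hk _)

theorem mem_orb (h : H) (i : ℕ) : (x ^ i) h ∈ orb x h := subset_closure ⟨i, rfl⟩

theorem self_mem_orb (h : H) : h ∈ orb x h := mem_orb h 0

theorem inv_orb (h : H) : Inv x (orb x h) := inv_closure fun s ⟨i, e⟩ => by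
  rw [← e, pow_apply_comm]; exact mem_orb h _

theorem orb_le {K : Subgroup H} (hK : Inv x K) {h : H} (hh : h ∈ K) : orb x h ≤ K :=
  (closure_le _).mpr fun _ ⟨i, e⟩ => e ▸ hK.pow i h hh

/-- `[K, x]` is normalised by `K`. -/
theorem brk_conj {K : Subgroup H} (hK : Inv x K) {g c : H} (hg : g ∈ K) (hc : c ∈ brk x (K : Set H)) :
    g⁻¹ * c * g ∈ brk x (K : Set H) := by
  induction hc using closure_induction with
  | mem c hc =>
    obtain ⟨k, hk, i, rfl⟩ := hc
    rw [show g⁻¹ * (k⁻¹ * (x ^ i) k) * g = ((k * g)⁻¹ * (x ^ i) (k * g)) * (g⁻¹ * (x ^ i) g)⁻¹ by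
      rw [map_mul]; group]
    exact mul_mem (mem_brk (P := (K : Set H)) (mul_mem hk hg) i) (inv_mem (mem_brk (P := (K : Set H)) hg i))
  | one => simp
  | mul a b _ _ ha hb => rw [show g⁻¹ * (a * b) * g = (g⁻¹ * a * g) * (g⁻¹ * b * g) by group]; exact mul_mem ha hb
  | inv a _ ha => rw [show g⁻¹ * a⁻¹ * g = (g⁻¹ * a * g)⁻¹ by group]; exact inv_mem ha

theorem brk_normal : (brk x ((⊤ : Subgroup H) : Set H)).Normal := ⟨fun c hc g => by
  have := brk_conj (K := ⊤) Inv.top (mem_top g⁻¹) hc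
  rwa [inv_inv] at this⟩

theorem dif_le_sig_of {h c : H} (hc : c ∈ dif x h) (hf : c ∈ fx x) : c ∈ sig x :=
  le_iSup (fun h => dif x h ⊓ fx x) h ⟨hc, hf⟩

theorem sig_le_fx : sig x ≤ fx x := iSup_le fun _ => inf_le_right

theorem sig_le_brk : sig x ≤ brk x ((⊤ : Subgroup H) : Set H) :=
  iSup_le fun h => inf_le_left.trans (dif_le_brk (mem_top h))

theorem sig_conj {c s : H} (hc : c ∈ fx x) (hs : s ∈ sig x) : c⁻¹ * s * c ∈ sig x := by
  have key : sig x ≤ (sig x).comap (MulAut.conj c⁻¹).toMonoidHom := iSup_le fun h a ha' => by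
    obtain ⟨ha, haf⟩ := ha'
    show c⁻¹ * a * c⁻¹⁻¹ ∈ sig x
    rw [inv_inv]
    refine dif_le_sig_of (h := h * c) ?_ ((fx x).mul_mem ((fx x).mul_mem ((fx x).inv_mem hc) haf) hc)
    clear haf
    induction ha using closure_induction with
    | mem a ha =>
      obtain ⟨i, rfl⟩ := ha
      rw [show c⁻¹ * (h⁻¹ * (x ^ i) h) * c = (h * c)⁻¹ * (x ^ i) (h * c) by rw [map_mul, fx_pow hc]; group]
      exact mem_dif _ i
    | one => simp
    | mul a b _ _ ha hb => rw [show c⁻¹ * (a * b) * c = (c⁻¹ * a * c) * (c⁻¹ * b * c) by group]; exact mul_mem ha hb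
    | inv a _ ha => rw [show c⁻¹ * a⁻¹ * c = (c⁻¹ * a * c)⁻¹ by group]; exact inv_mem ha
  have := key hs
  change c⁻¹ * s * c⁻¹⁻¹ ∈ sig x at this
  rwa [inv_inv] at this

/-! ### Coprime lifting -/

variable [Finite H] {p : ℕ} [hp : Fact p.Prime]

theorem exists_fixed_coset (hxp : x ^ p = 1) (hcop : (Nat.card H).Coprime p) {M : Subgroup H} (hM : Inv x M)
    {g : H} (hg : g⁻¹ * x g ∈ M) : ∃ n ∈ M, g * n ∈ fx x := by
  classical
  haveI := Fintype.ofFinite M
  let f : M → M := fun n => ⟨g⁻¹ * x g * x n, mul_mem hg (hM n n.2)⟩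
  have hf : Function.Injective f := fun a b e =>
    Subtype.ext (x.injective (mul_left_cancel (congrArg Subtype.val e : g⁻¹ * x g * x a = g⁻¹ * x g * x b)))
  let σ : Equiv.Perm M := Equiv.ofBijective f (Finite.injective_iff_bijective.mp hf)
  have hit : ∀ (i : ℕ) (n : M), (((σ ^ i) n : M) : H) = g⁻¹ * (x ^ i) (g * n) := by
    intro i
    induction i with
    | zero => intro n; simp
    | succ i ih =>
      intro n
      rw [pow_succ', Equiv.Perm.mul_apply]
      show g⁻¹ * x g * x (((σ ^ i) n : M) : H) = _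
      rw [ih, map_mul x, map_inv, pow_apply_comm]
      group
  have hσ : σ ^ p ^ 1 = 1 := by
    rw [pow_one]
    ext n
    rw [hit, hxp, MulAut.one_apply]
    simp
  have hd : ¬ p ∣ Fintype.card M := fun hd => by
    rw [← Nat.card_eq_fintype_card] at hd
    exact hp.out.not_dvd_one (hcop ▸ Nat.dvd_gcd (hd.trans (card_subgroup_dvd_card M)) dvd_rfl)
  obtain ⟨n, hn⟩ := Equiv.Perm.exists_fixed_point_of_prime hd hσ
  refine ⟨n, n.2, mem_fx.mpr ?_⟩
  have h1 : g⁻¹ * x g * x n = (n : H) := congrArg Subtype.val hn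
  rw [map_mul]
  calc x g * x n = g * (g⁻¹ * x g * x n) := by group
    _ = _ := by rw [h1]

/-- `K = C_K(x) [K, x]`, so `[K, x, x] = [K, x]`. -/
theorem exists_fixed_mul (hxp : x ^ p = 1) (hcop : (Nat.card H).Coprime p) {K : Subgroup H} (hK : Inv x K)
    {k : H} (hk : k ∈ K) : ∃ f ∈ K, ∃ b ∈ brk x (K : Set H), f ∈ fx x ∧ k = f * b := by
  obtain ⟨n, hn, hf⟩ := exists_fixed_coset hxp hcop (inv_brk (K : Set H)) (g := k)
    (by have := mem_brk (x := x) (P := (K : Set H)) hk 1; rwa [pow_one] at this)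
  exact ⟨k * n, mul_mem hk (brk_le_self hK hn), n⁻¹, inv_mem hn, hf, by group⟩

theorem brk_brk (hxp : x ^ p = 1) (hcop : (Nat.card H).Coprime p) {K : Subgroup H} (hK : Inv x K) :
    brk x (brk x (K : Set H) : Set H) = brk x (K : Set H) := by
  refine le_antisymm (brk_mono (brk_le_self hK)) ((closure_le _).mpr ?_)
  rintro _ ⟨k, hk, i, rfl⟩
  obtain ⟨f, -, b, hb, hf, rfl⟩ := exists_fixed_mul hxp hcop hK hk
  rw [map_mul, fx_pow hf, show (f * b)⁻¹ * (f * (x ^ i) b) = b⁻¹ * (x ^ i) b by group]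
  exact mem_brk hb i

/-! ### Induction -/

/-- The automorphism of an invariant subgroup. -/
noncomputable def res {K : Subgroup H} (hK : Inv x K) : MulAut K :=
  MulEquiv.ofBijective
    ({ toFun := fun k => ⟨x k, hK k k.2⟩
       map_one' := Subtype.ext (map_one x)
       map_mul' := fun a b => Subtype.ext (map_mul x (a : H) b) } : K →* K)
    (Finite.injective_iff_bijective.mp fun a b e => Subtype.ext (x.injective (congrArg Subtype.val e)))

theorem res_apply {K : Subgroup H} (hK : Inv x K) (k : K) : ((res hK k : K) : H) = x k := rfl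

theorem res_pow {K : Subgroup H} (hK : Inv x K) (i : ℕ) (k : K) : (((res hK ^ i) k : K) : H) = (x ^ i) k := by
  induction i with
  | zero => rfl
  | succ i ih => rw [← pow_apply_comm, res_apply, ih, pow_apply_comm]

theorem res_pow_prime (hxp : x ^ p = 1) {K : Subgroup H} (hK : Inv x K) : res hK ^ p = 1 := by
  ext k
  rw [res_pow, hxp]
  rfl

omit [Finite H] in
/-- The induction hypothesis. -/
def IH (H : Type u) [Group H] (p : ℕ) : Prop :=
  ∀ (K : Type u) [Group K] [Finite K], Nat.card K < Nat.card H → Group.IsSolvable K → (Nat.card K).Coprime p →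
    ∀ y : MulAut K, y ^ p = 1 → Ok y

variable (hxp : x ^ p = 1) (hcop : (Nat.card H).Coprime p)

include hxp hcop in
theorem proper [Group.IsSolvable H] (ih : IH H p) {K : Subgroup H} (hK : Inv x K) (hne : K ≠ ⊤) :
    brk x (K : Set H) ⊓ fx x ≤ sig x := by
  have hlt : Nat.card K < Nat.card H := by
    refine lt_of_le_of_ne (Nat.le_of_dvd Nat.card_pos (card_subgroup_dvd_card K)) fun e => hne ?_
    exact eq_top_of_card_eq _ e
  have hok : Ok (res hK) := ih K hlt inferInstance (hcop.coprime_dvd_left (card_subgroup_dvd_card K)) _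
    (res_pow_prime hxp hK)
  rintro c ⟨hc, hcf⟩
  have hb : brk x (K : Set H) ≤ (brk (res hK) ((⊤ : Subgroup K) : Set K)).map K.subtype :=
    (closure_le _).mpr fun _ ⟨k, hk, i, e⟩ => ⟨(⟨k, hk⟩ : K)⁻¹ * (res hK ^ i) ⟨k, hk⟩,
      mem_brk (mem_top _) i, by rw [e]; simp [res_pow]⟩
  obtain ⟨d, hd, rfl⟩ := hb hc
  have hd' := hok ⟨hd, (mem_fx (x := res hK)).mpr (Subtype.ext (show x (d : H) = (d : H) from hcf))⟩
  have hs : sig (res hK) ≤ (sig x).comap K.subtype := iSup_le fun h a ha' => by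
    obtain ⟨ha, haf⟩ := ha'
    refine dif_le_sig_of (h := (h : H)) ?_ (show x (a : H) = (a : H) from congrArg Subtype.val (show res hK a = a from haf))
    clear haf
    induction ha using closure_induction with
    | mem a ha =>
      obtain ⟨i, rfl⟩ := ha
      show ((h⁻¹ * (res hK ^ i) h : K) : H) ∈ _
      simpa [res_pow] using mem_dif (x := x) (h : H) i
    | one => exact one_mem _
    | mul a b _ _ ha hb => exact mul_mem ha hb
    | inv a _ ha => exact inv_mem ha
  exact hs hd'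

include hxp hcop in
/-- Every fixed element of the whole `[H, x]` comes from the image in a quotient. -/
theorem reduce [Group.IsSolvable H] (ih : IH H p) {N : Subgroup H} [N.Normal] (hN : Inv x N) (hne : N ≠ ⊥)
    (hgood : ∀ v ∈ N, v ∈ fx x → v ∈ brk x ((⊤ : Subgroup H) : Set H) → v ∈ sig x) : Ok x := by
  let y : MulAut (H ⧸ N) := QuotientGroup.congr N N x hN.map_eq
  have hy : ∀ (i : ℕ) (h : H), (y ^ i) (h : H ⧸ N) = (((x ^ i) h : H) : H ⧸ N) := by
    intro i
    induction i with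
    | zero => intro h; rfl
    | succ i ih =>
      intro h
      rw [← pow_apply_comm, ih, ← pow_apply_comm]
      rfl
  have hyp : y ^ p = 1 := by
    ext a
    induction a using QuotientGroup.induction_on with
    | _ h => rw [hy, hxp]; rfl
  have hlt : Nat.card (H ⧸ N) < Nat.card H := by
    rw [card_eq_card_quotient_mul_card_subgroup N]
    exact lt_mul_of_one_lt_right Nat.card_pos (by
      rcases Nat.lt_or_ge 1 (Nat.card N) with h | h
      · exact h
      · exact absurd (eq_bot_of_card_le N h) hne)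
  have hok : Ok y := ih (H ⧸ N) hlt inferInstance
    (hcop.coprime_dvd_left (card_quotient_dvd_card N)) y hyp
  rintro c ⟨hc, hcf⟩
  have hc1 : (c : H ⧸ N) ∈ brk y ((⊤ : Subgroup (H ⧸ N)) : Set (H ⧸ N)) := by
    have : brk x ((⊤ : Subgroup H) : Set H) ≤ (brk y ((⊤ : Subgroup (H ⧸ N)) : Set (H ⧸ N))).comap
        (QuotientGroup.mk' N) :=
      (closure_le _).mpr fun _ ⟨k, _, i, e⟩ => by
        show ((_ : H) : H ⧸ N) ∈ brk y _
        rw [e, QuotientGroup.mk_mul, QuotientGroup.mk_inv, ← hy]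
        exact mem_brk (mem_top _) i
    exact this hc
  have hc2 : (c : H ⧸ N) ∈ fx y := by
    have := hy 1 c
    rw [pow_one, pow_one, mem_fx.mp hcf] at this
    exact this
  have hs : sig y ≤ (sig x).map (QuotientGroup.mk' N) := iSup_le fun a b ⟨hb, hbf⟩ => by
    induction a using QuotientGroup.induction_on with
    | _ h =>
      have hle : dif y (h : H ⧸ N) ≤ (dif x h).map (QuotientGroup.mk' N) := (closure_le _).mpr fun _ ⟨i, e⟩ =>
        ⟨h⁻¹ * (x ^ i) h, mem_dif h i, by rw [e, hy]; rfl⟩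
      obtain ⟨g, hg, rfl⟩ := hle hb
      have hgN : g⁻¹ * x g ∈ N := by
        rw [← QuotientGroup.eq]
        have h1 := hy 1 g
        rw [pow_one, pow_one] at h1
        exact (mem_fx.mp hbf).symm.trans h1
      have hgD : g⁻¹ * x g ∈ N ⊓ dif x h := ⟨hgN, mul_mem ((dif x h).inv_mem hg) (inv_dif h g hg)⟩
      obtain ⟨n, hn, hf⟩ := exists_fixed_coset hxp hcop (hN.inf (inv_dif h)) hgD
      exact ⟨g * n, dif_le_sig_of (mul_mem hg hn.2) hf, QuotientGroup.eq.mpr (by simpa using (N).inv_mem hn.1)⟩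
  obtain ⟨s, hs', e⟩ := hs (hok ⟨hc1, hc2⟩)
  have hv : s⁻¹ * c ∈ N := QuotientGroup.eq.mp e
  have hvs := hgood _ hv ((fx x).mul_mem ((fx x).inv_mem (sig_le_fx hs')) hcf)
    (mul_mem (inv_mem (sig_le_brk hs')) hc)
  have := mul_mem hs' hvs
  rwa [mul_inv_cancel_left] at this

/-! ### The product over the orbit of an abelian invariant subgroup -/

/-- The norm. -/
noncomputable def nm {W : Subgroup H} [IsMulCommutative W] (hW : Inv x W) (p : ℕ) : W →* W :=
  { toFun := fun w => ∏ i ∈ Finset.range p, (res hW ^ i) w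
    map_one' := by simp
    map_mul' := fun a b => by simp [Finset.prod_mul_distrib] }

theorem nm_fixed {W : Subgroup H} [IsMulCommutative W] (hW : Inv x W) {v : W} (hv : (v : H) ∈ fx x) :
    nm hW p v = v ^ p := by
  show ∏ i ∈ Finset.range p, (res hW ^ i) v = _
  rw [Finset.prod_congr rfl fun i _ => (Subtype.ext (by rw [res_pow, fx_pow hv]) : (res hW ^ i) v = v)]
  simp

include hxp in
theorem nm_res {W : Subgroup H} [IsMulCommutative W] (hW : Inv x W) (w : W) : nm hW p (res hW w) = nm hW p w := by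
  show ∏ i ∈ Finset.range p, (res hW ^ i) (res hW w) = ∏ i ∈ Finset.range p, (res hW ^ i) w
  have h1 : ∀ i, (res hW ^ i) (res hW w) = (res hW ^ (i + 1)) w := fun i => by rw [pow_succ, MulAut.mul_apply]
  simp only [h1]
  have h2 := Finset.prod_range_succ' (fun i => (res hW ^ i) w) p
  rw [Finset.prod_range_succ, res_pow_prime hxp hW, pow_zero] at h2
  exact mul_right_cancel h2.symm

include hxp in
theorem nm_mem_fx {W : Subgroup H} [IsMulCommutative W] (hW : Inv x W) (w : W) :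
    ((nm hW p w : W) : H) ∈ fx x := by
  have h : res hW (nm hW p w) = nm hW p (res hW w) := by
    show res hW (∏ i ∈ Finset.range p, (res hW ^ i) w) = ∏ i ∈ Finset.range p, (res hW ^ i) (res hW w)
    rw [map_prod]
    refine Finset.prod_congr rfl fun i _ => ?_
    rw [← MulAut.mul_apply, ← MulAut.mul_apply, ← pow_succ', pow_succ]
  rw [nm_res hxp] at h
  exact (congrArg Subtype.val h : _)

theorem nm_mem {W A : Subgroup H} [IsMulCommutative W] (hW : Inv x W) (hA : Inv x A) {w : W} (hw : (w : H) ∈ A) :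
    ((nm hW p w : W) : H) ∈ A := by
  show W.subtype (∏ i ∈ Finset.range p, (res hW ^ i) w) ∈ A
  refine Finset.prod_induction _ (fun z : W => W.subtype z ∈ A) (fun a b ha hb => by rw [map_mul]; exact mul_mem ha hb)
    (by simp) fun i _ => ?_
  show (((res hW ^ i) w : W) : H) ∈ A
  rw [res_pow]
  exact hA.pow i _ hw

include hcop in
theorem mem_of_pow {S : Subgroup H} {v : H} (hv : v ^ p ∈ S) : v ∈ S := by
  obtain ⟨m, hm⟩ := exists_pow_eq_self_of_coprime (x := v) (n := p)
    (hcop.symm.coprime_dvd_right (orderOf_dvd_natCard v))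
  rw [← hm]
  exact pow_mem hv m

include hxp hcop in
/-- In an abelian invariant subgroup no fixed element is a product of `k⁻¹ · xⁱ k`. -/
theorem fixed_eq_one {W : Subgroup H} [IsMulCommutative W] (hW : Inv x W) {v : H} (hv : v ∈ brk x (W : Set H))
    (hf : v ∈ fx x) : v = 1 := by
  have hle : brk x (W : Set H) ≤ (nm hW p).ker.map W.subtype := (closure_le _).mpr fun _ ⟨k, hk, i, e⟩ => by
    refine ⟨(⟨k, hk⟩ : W)⁻¹ * (res hW ^ i) ⟨k, hk⟩, MonoidHom.mem_ker.mpr ?_, by rw [e]; simp [res_pow]⟩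
    have hi : ∀ i : ℕ, nm hW p ((res hW ^ i) ⟨k, hk⟩) = nm hW p ⟨k, hk⟩ := fun i => by
      induction i with
      | zero => rfl
      | succ i ih => rw [pow_succ', MulAut.mul_apply, nm_res hxp, ih]
    rw [map_mul, map_inv, hi, inv_mul_cancel]
  obtain ⟨w, hw, rfl⟩ := hle hv
  have h1 : w ^ p = 1 := (nm_fixed hW hf).symm.trans (MonoidHom.mem_ker.mp hw)
  exact mem_bot.mp (mem_of_pow hcop (S := ⊥) (mem_bot.mpr (by rw [← map_pow, h1, map_one])))

theorem conj_invariant {W : Subgroup H} [W.Normal] {g : H} {w : H} (hw : w ∈ W) : g * w * g⁻¹ ∈ W :=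
  (inferInstance : W.Normal).conj_mem w hw g

include hxp hcop in
/-- Fixed points in `⁅W, K⁆` where `K` is generated by the `[k, x]`, all `W ⟨k^x⟩` proper. -/
theorem fam [Group.IsSolvable H] (ih : IH H p) {W : Subgroup H} [W.Normal] [IsMulCommutative W] (hW : Inv x W)
    {P : Set H} (hP : ∀ k ∈ P, W ⊔ orb x k ≠ ⊤) {v : H} (hv : v ∈ ⁅W, brk x P⁆) (hf : v ∈ fx x) : v ∈ sig x := by
  set Y : Subgroup H := ⨆ k : P, ⁅W, dif x (k : H)⁆ with hY
  have hYW : Y ≤ W := iSup_le fun k => commutator_le_left _ _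
  have key : ⁅W, brk x P⁆ ≤ Y := commutator_le.mpr fun w hw g hg => by
    suffices h : ∀ w ∈ W, ⁅w, g⁆ ∈ Y ∧ ⁅w, g⁻¹⁆ ∈ Y from (h w hw).1
    have hmul : ∀ g h : H, (∀ w ∈ W, ⁅w, g⁆ ∈ Y) → (∀ w ∈ W, ⁅w, h⁆ ∈ Y) → ∀ w ∈ W, ⁅w, g * h⁆ ∈ Y := by
      intro g h hg hh w hw
      have hy := hh w hw
      have h1 := hg _ (W.inv_mem (hYW hy))
      rw [show ⁅w, g * h⁆ = ⁅w, g⁆ * (⁅w, h⁆ * ⁅⁅w, h⁆⁻¹, g⁆) by simp only [commutatorElement_def]; group]
      exact mul_mem (hg w hw) (mul_mem hy h1)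
    clear hw
    induction hg using closure_induction with
    | mem g hg =>
      obtain ⟨k, hk, i, rfl⟩ := hg
      intro w hw
      exact ⟨le_iSup (fun k : P => ⁅W, dif x (k : H)⁆) ⟨k, hk⟩ (commutator_mem_commutator hw (mem_dif k i)),
        le_iSup (fun k : P => ⁅W, dif x (k : H)⁆) ⟨k, hk⟩ (commutator_mem_commutator hw (inv_mem (mem_dif k i)))⟩
    | one => intro w _; simp
    | mul a b _ _ ha hb =>
      intro w hw
      exact ⟨hmul a b (fun w hw => (ha w hw).1) (fun w hw => (hb w hw).1) w hw, by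
        rw [mul_inv_rev]; exact hmul b⁻¹ a⁻¹ (fun w hw => (hb w hw).2) (fun w hw => (ha w hw).2) w hw⟩
    | inv a _ ha => intro w hw; exact ⟨(ha w hw).2, by rw [inv_inv]; exact (ha w hw).1⟩
  have hYs : Y ≤ (((sig x).comap W.subtype).comap (nm hW p)).map W.subtype := iSup_le fun k z hz => by
    have hzW : z ∈ W := commutator_le_left _ _ hz
    refine ⟨⟨z, hzW⟩, ?_, rfl⟩
    set M := W ⊔ orb x (k : H) with hM
    have hMinv : Inv x M := hW.sup (inv_orb _)
    have hle : ⁅W, dif x (k : H)⁆ ≤ brk x (M : Set H) := commutator_le.mpr fun w hw d hd => by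
      have hdM : d ∈ brk x (M : Set H) := dif_le_brk (mem_sup_right (self_mem_orb (k : H))) hd
      have h1 := brk_conj hMinv (M.inv_mem (mem_sup_left hw : w ∈ M)) hdM
      rw [inv_inv] at h1
      rw [commutatorElement_def]
      exact mul_mem h1 (inv_mem hdM)
    exact proper hxp hcop ih hMinv (hP k k.2)
      ⟨hle (nm_mem hW (hW.commutator (inv_dif _)) hz), nm_mem_fx hxp hW _⟩
  obtain ⟨w, hw, rfl⟩ := hYs (key hv)
  have h1 : W.subtype (nm hW p w) ∈ sig x := hw
  rw [nm_fixed hW hf, map_pow] at h1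
  exact mem_of_pow hcop h1

end CfsgLib.FixGen
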