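import Cfsg.Agent.Lib.FixGen.Tools
import Cfsg.Agent.Lib.FrobAction.Order
import Cfsg.Agent.Lib.Coprime

/-!
Fixed points of a coprime automorphism in `[H, x]`: a noncentral minimal invariant normal subgroup.
-/

set_option autoImplicit false
set_option linter.unusedSectionVars false
set_option linter.unusedVariables false
set_option linter.style.haveILetI false
set_option maxHeartbeats 1600000

namespace CfsgLib.FixGen

open Subgroup
open scoped commutatorElement IsMulCommutative Pointwise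

universe u
variable {H : Type u} [Group H] [Finite H] {x : MulAut H}

/-- Fixed elements of `V` are products of two fixed elements and the count shows there are none. -/
theorem frobenius_count {p r : ℕ} [hp : Fact p.Prime] [Fact r.Prime] (hp3 : 3 ≤ p) (hxp : x ^ p = 1) (hx1 : x ≠ 1)
    {V K : Subgroup H} [V.Normal] [IsMulCommutative V] [IsMulCommutative K] (hV : Inv x V) (hK : Inv x K)
    (hVr : ∀ v ∈ V, v ^ r = 1) (hKr : ¬ r ∣ Nat.card K) (hfK : ∀ a ∈ K, a ∈ fx x → a = 1)
    (hfree : ∀ v ∈ V, (∀ a ∈ K, a * v = v * a) → v = 1)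
    (hcount : Nat.card V ≤ Nat.card ↥(V ⊓ fx x) * Nat.card ↥(V ⊓ fx x)) : V = ⊥ := by
  set E := Subgroup.zpowers x with hE
  have hxE : orderOf x = p := orderOf_eq_prime hxp hx1
  have hEcard : Nat.card E = p := by rw [hE, Nat.card_zpowers, hxE]
  have hpow : ∀ σ : E, ∃ i : ℕ, (σ : MulAut H) = x ^ i := fun σ => by
    obtain ⟨i, hi⟩ := mem_powers_iff_mem_zpowers.mpr σ.2
    exact ⟨i, hi.symm⟩
  have hinv : ∀ {W : Subgroup H}, Inv x W → ∀ σ : E, Inv (σ : MulAut H) W := fun {W} hW σ => by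
    obtain ⟨i, hi⟩ := hpow σ
    rw [hi]; exact hW.pow i
  have rmul : ∀ {W : Subgroup H} (hW : Inv x W) (σ τ : E) (w : W),
      res (hinv hW (σ * τ)) w = res (hinv hW σ) (res (hinv hW τ) w) := fun hW σ τ w => Subtype.ext rfl
  let τ : E →* MulAut K :=
    { toFun := fun σ => res (hinv hK σ)
      map_one' := by ext a; rfl
      map_mul' := fun σ τ => MulEquiv.ext fun a => rmul hK σ τ a }
  let fE : E →* Monoid.End V :=
    { toFun := fun σ => (res (hinv hV σ)).toMonoidHom
      map_one' := by ext a; rfl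
      map_mul' := fun σ τ => MonoidHom.ext fun a => rmul hV σ τ a }
  let fU : K →* Monoid.End V :=
    { toFun := fun a => (MulAut.conjNormal (H := V) (a : H)).toMonoidHom
      map_one' := MonoidHom.ext fun v => by
        show MulAut.conjNormal ((1 : K) : H) v = v
        rw [OneMemClass.coe_one, map_one]; rfl
      map_mul' := fun a b => MonoidHom.ext fun v => by
        show MulAut.conjNormal ((a * b : K) : H) v = MulAut.conjNormal (a : H) (MulAut.conjNormal (b : H) v)
        rw [Subgroup.coe_mul, map_mul]; rfl }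
  have hfpf : ∀ σ : E, σ ≠ 1 → ∀ a, τ σ a = a → a = 1 := fun σ hσ a ha => by
    refine Subtype.ext (hfK a a.2 ?_)
    obtain ⟨i, hi⟩ := hpow σ
    have hni : ¬ p ∣ i := fun ⟨c, hc⟩ => hσ (Subtype.ext (by rw [hi, hc, pow_mul, hxp, one_pow]; rfl))
    have hσa : (x ^ i) (a : H) = (a : H) := hi ▸ congrArg Subtype.val ha
    obtain ⟨m, hm⟩ := exists_pow_eq_self_of_coprime (x := x) (n := i)
      (hxE ▸ (hp.out.coprime_iff_not_dvd.mpr hni).symm)
    show x (a : H) = (a : H)
    calc x (a : H) = ((x ^ i) ^ m) (a : H) := by rw [hm]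
      _ = (a : H) := fx_pow (x := x ^ i) hσa m
  have key := CfsgLib.FrobAction.abelian_order_formula r (V := V)
    (fun v => Subtype.ext (hVr v v.2)) τ hfpf hKr fU fE (fun σ a => by
      ext v
      show ((σ : MulAut H) ((a : H) * v * (a : H)⁻¹)) = (σ : MulAut H) a * (σ : MulAut H) v * ((σ : MulAut H) a)⁻¹
      rw [map_mul, map_mul, map_inv])
  have hU1 : ∀ v : V, (∀ a, fU a v = v) → v = 1 := fun v hv => Subtype.ext (hfree v v.2 fun a ha => by
    have := congrArg Subtype.val (hv ⟨a, ha⟩)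
    exact mul_inv_eq_iff_eq_mul.mp this)
  have e1 : Nat.card {v : V // ∀ a, fU a v = v} = 1 :=
    Nat.card_eq_one_iff_unique.mpr ⟨⟨fun a b => Subtype.ext ((hU1 _ a.2).trans (hU1 _ b.2).symm)⟩,
      ⟨⟨1, fun a => map_one (fU a)⟩⟩⟩
  have e2 : Nat.card {v : V // (∀ a, fU a v = v) ∧ ∀ σ, fE σ v = v} = 1 :=
    Nat.card_eq_one_iff_unique.mpr ⟨⟨fun a b => Subtype.ext ((hU1 _ a.2.1).trans (hU1 _ b.2.1).symm)⟩,
      ⟨⟨1, fun a => map_one (fU a), fun σ => map_one (fE σ)⟩⟩⟩
  have e3 : Nat.card {v : V // ∀ σ, fE σ v = v} = Nat.card ↥(V ⊓ fx x) :=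
    Nat.card_congr
      { toFun := fun v => ⟨v.1, v.1.2, congrArg Subtype.val (v.2 ⟨x, mem_zpowers x⟩)⟩
        invFun := fun v => ⟨⟨v, v.2.1⟩, fun σ => Subtype.ext (by
          obtain ⟨i, hi⟩ := hpow σ
          show (σ : MulAut H) v = v
          rw [hi]; exact fx_pow v.2.2 i)⟩
        left_inv := fun v => rfl
        right_inv := fun v => rfl }
  rw [e1, e2, e3, hEcard, one_pow, one_mul, mul_one] at key
  by_contra hne
  have hc1 : Nat.card ↥(V ⊓ fx x) ≠ 1 := fun h => by
    rw [h, one_pow] at key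
    exact hne (eq_bot_of_card_eq V key)
  have hc2 : 1 < Nat.card ↥(V ⊓ fx x) := lt_of_le_of_ne Nat.card_pos (Ne.symm hc1)
  have h3 : Nat.card ↥(V ⊓ fx x) ^ 3 ≤ Nat.card ↥(V ⊓ fx x) ^ p := Nat.pow_le_pow_right (by omega) hp3
  rw [← key, pow_succ, pow_two] at h3
  nlinarith

variable {p : ℕ} [hp : Fact p.Prime] (hxp : x ^ p = 1) (hcop : (Nat.card H).Coprime p)

include hxp hcop in
theorem case_noncentral [Group.IsSolvable H] (ih : IH H p) (hp3 : 3 ≤ p) (hx1 : x ≠ 1)
    (hT : brk x ((⊤ : Subgroup H) : Set H) = ⊤) {V : Subgroup H} (hV : MinInv x V) (hnc : ¬ V ≤ Subgroup.center H) :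
    Ok x := by
  haveI := hV.normal
  haveI := hV.comm
  have hVV : ∀ a ∈ V, ∀ b ∈ V, a * b = b * a := fun a ha b hb => congrArg Subtype.val (mul_comm' (⟨a, ha⟩ : V) ⟨b, hb⟩)
  have hVT : ⁅V, (⊤ : Subgroup H)⁆ = V := by
    rcases hV.min _ inferInstance (hV.inv.commutator Inv.top) (commutator_le_left V ⊤) with h | h
    · refine absurd ?_ hnc
      rw [commutator_eq_bot_iff_le_centralizer] at h
      rwa [coe_top, centralizer_univ] at h
    · exact h
  by_cases hall : ∀ k ∈ invSyl x, V ⊔ orb x k ≠ ⊤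
  · refine reduce hxp hcop ih hV.inv hV.ne_bot fun v hv hf _ => fam hxp hcop ih hV.inv hall ?_ hf
    rwa [brk_invSyl hxp hcop hT, hVT]
  push Not at hall
  obtain ⟨k, hk, hkV⟩ := hall
  obtain ⟨q, hq, hOq, hKq⟩ := brk_dif_le_invSyl hk
  haveI := Fact.mk hq
  haveI : Group.IsNilpotent (orb x k : Subgroup H) := hOq.isNilpotent
  have hVK : V ⊔ dif x k = ⊤ := dif_top hT hV.inv (R := orb x k) hkV hkV
  obtain ⟨r, hr, hVr⟩ := hV.exponent
  haveI := Fact.mk hr
  have hqr : q ≠ r := by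
    rintro rfl
    have hVq : IsPGroup q V := fun v => ⟨1, Subtype.ext (by simpa using hVr v v.2)⟩
    have h1 := hVq.to_sup_of_normal_left hKq
    rw [hVK] at h1
    haveI := h1.isNilpotent
    exact hV.ne_bot (eq_bot_of_commutator_eq (F := ⊤) le_top hVT)
  set K := dif x k with hKdef
  have hKinv : Inv x K := inv_dif k
  have hdisj : ∀ a, a ∈ V → a ∈ K → a = 1 := fun a ha hb => by
    obtain ⟨n, hn⟩ := hKq ⟨a, hb⟩
    have hn' : a ^ q ^ n = 1 := congrArg Subtype.val hn
    have h1 := Nat.eq_one_of_dvd_coprimes (Nat.Coprime.pow_left n ((Nat.coprime_primes hq hr).mpr hqr))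
      (orderOf_dvd_of_pow_eq_one hn') (orderOf_dvd_of_pow_eq_one (hVr a ha))
    exact orderOf_eq_one_iff.mp h1
  have hdec : ∀ g : H, ∃ w ∈ V, ∃ a ∈ K, w * a = g := fun g => mem_sup_of_normal_left.mp (hVK ▸ mem_top g)
  -- normality of subgroups normalised by `K`
  have hnormal : ∀ U : Subgroup H, (∀ w ∈ V, ∀ u ∈ U, w * u * w⁻¹ ∈ U) → (∀ a ∈ K, ∀ u ∈ U, a * u * a⁻¹ ∈ U) →
      U.Normal := fun U h1 h2 => ⟨fun u hu g => by
    obtain ⟨w, hw, a, ha, rfl⟩ := hdec g
    rw [show w * a * u * (w * a)⁻¹ = w * (a * u * a⁻¹) * w⁻¹ by group]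
    exact h1 w hw _ (h2 a ha u hu)⟩
  -- `C_K(V) = 1`
  by_cases hfa : ∃ a ∈ K, a ≠ 1 ∧ ∀ v ∈ V, v * a = a * v
  · obtain ⟨a, ha, ha1, hav⟩ := hfa
    have hn : (K ⊓ centralizer (V : Set H)).Normal := hnormal _
      (fun w hw u hu => by rw [mem_centralizer_iff.mp hu.2 w hw, mul_inv_cancel_right]; exact hu)
      (fun b hb u hu => ⟨K.mul_mem (K.mul_mem hb hu.1) (K.inv_mem hb),
        (inferInstance : (centralizer (V : Set H)).Normal).conj_mem u hu.2 b⟩)
    exact reduce hxp hcop ih (hKinv.inf hV.inv.centralizer)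
      (fun h => ha1 (mem_bot.mp (h ▸ (⟨ha, mem_centralizer_iff.mpr hav⟩ : a ∈ K ⊓ centralizer (V : Set H)))))
      fun v hv hf _ => dif_le_sig_of hv.1 hf
  push Not at hfa
  have hfaith : ∀ a ∈ K, (∀ v ∈ V, v * a = a * v) → a = 1 := fun a ha h => by
    by_contra h1
    obtain ⟨v, hv, hne⟩ := hfa a ha h1
    exact hne (h v hv)
  have hfree : ∀ v ∈ V, (∀ a ∈ K, a * v = v * a) → v = 1 := fun v hv hva => by
    rcases hV.min (V ⊓ Subgroup.center H) inferInstance (hV.inv.inf Inv.center) inf_le_left with h | h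
    · refine mem_bot.mp (h ▸ ⟨hv, mem_center_iff.mpr fun g => ?_⟩)
      obtain ⟨w, hw, a, ha, rfl⟩ := hdec g
      rw [mul_assoc, hva a ha, ← mul_assoc, hVV w hw v hv, mul_assoc]
    · exact absurd (inf_eq_left.mp h) hnc
  -- the centre of `K`
  set A := K ⊓ centralizer (K : Set H) with hA
  have hAinv : Inv x A := hKinv.inf hKinv.centralizer
  have hKne : K ≠ ⊥ := fun h => by
    rw [h, sup_bot_eq] at hVK
    refine hnc fun v hv => mem_center_iff.mpr fun g => ?_
    exact hVV g (hVK ▸ mem_top g) v hv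
  have hAne : A ≠ ⊥ := fun h => by
    haveI : Nontrivial K := (nontrivial_iff_ne_bot K).mpr hKne
    haveI := hKq.center_nontrivial
    obtain ⟨⟨a, ha⟩, ha1⟩ := exists_ne (1 : Subgroup.center K)
    refine ha1 (Subtype.ext (Subtype.ext (mem_bot.mp (h ▸ ⟨a.2, mem_centralizer_iff.mpr fun b hb => ?_⟩))))
    exact congrArg Subtype.val (mem_center_iff.mp ha ⟨b, hb⟩)
  by_cases hfA : ∃ a ∈ A, a ≠ 1 ∧ a ∈ fx x
  · obtain ⟨a, ha, ha1, haf⟩ := hfA
    have has : a ∈ sig x := dif_le_sig_of ha.1 haf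
    refine reduce hxp hcop ih hV.inv hV.ne_bot ?_
    let f : ↥(V ⊓ fx x) →* ↥(V ⊓ fx x) :=
      { toFun := fun v => ⟨⁅(v : H), a⁆, commutator_le_left V ⊤ (commutator_mem_commutator v.2.1 (mem_top a)),
          (fx x).mul_mem ((fx x).mul_mem ((fx x).mul_mem v.2.2 haf) ((fx x).inv_mem v.2.2)) ((fx x).inv_mem haf)⟩
        map_one' := Subtype.ext (by simp)
        map_mul' := fun v w => Subtype.ext (by
          have h1 : ⁅(w : H), a⁆ ∈ V := commutator_le_left V ⊤ (commutator_mem_commutator w.2.1 (mem_top a))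
          show ⁅(v : H) * w, a⁆ = ⁅(v : H), a⁆ * ⁅(w : H), a⁆
          rw [hVV _ (commutator_le_left V ⊤ (commutator_mem_commutator v.2.1 (mem_top a))) _ h1]
          calc ⁅(v : H) * w, a⁆ = ((v : H) * ⁅(w : H), a⁆) * (v : H)⁻¹ * ⁅(v : H), a⁆ := by
                simp only [commutatorElement_def]; group
            _ = _ := by rw [hVV _ v.2.1 _ h1, mul_inv_cancel_right]) }
    have hinj : Function.Injective f := (injective_iff_map_eq_one f).mpr fun v hv => by
      have hc : Commute (v : H) a := commutatorElement_eq_one_iff_commute.mp (congrArg Subtype.val hv)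
      have hn : (V ⊓ centralizer {a}).Normal := hnormal _
        (fun w hw u hu => by rw [hVV w hw u hu.1, mul_inv_cancel_right]; exact hu)
        (fun b hb u hu => ⟨hV.normal.conj_mem u hu.1 b, by
          show b * u * b⁻¹ ∈ centralizer {a}
          rw [mem_centralizer_singleton_iff]
          have hab : a * b = b * a := (mem_centralizer_iff.mp ha.2 b hb).symm
          have hab' : Commute a b := hab
          have hau : Commute a u := (mem_centralizer_singleton_iff.mp hu.2).symm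
          exact ((hab'.mul_right hau).mul_right hab'.inv_right).symm⟩)
      have hi : Inv x (V ⊓ centralizer {a}) := fun u hu => ⟨hV.inv u hu.1, by
        show x u ∈ centralizer {a}
        rw [mem_centralizer_singleton_iff, ← mem_fx.mp haf, ← map_mul, ← map_mul,
          mem_centralizer_singleton_iff.mp hu.2]⟩
      rcases hV.min _ hn hi inf_le_left with h | h
      · exact Subtype.ext (mem_bot.mp (h ▸ ⟨v.2.1, mem_centralizer_singleton_iff.mpr hc⟩))
      · exact absurd (hfaith a ha.1 fun u hu => mem_centralizer_singleton_iff.mp ((le_of_eq h.symm) hu).2) ha1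
    intro v hv hvf _
    obtain ⟨w, hw⟩ := Finite.injective_iff_surjective.mp hinj ⟨v, hv, hvf⟩
    have e : ⁅(w : H), a⁆ = v := congrArg Subtype.val hw
    rw [← e, commutatorElement_def]
    refine (sig x).mul_mem ?_ ((sig x).inv_mem has)
    have := sig_conj ((fx x).inv_mem w.2.2) has
    rwa [inv_inv] at this
  push Not at hfA
  have hAf : ∀ a ∈ A, a ∈ fx x → a = 1 := fun a ha hf => by_contra fun h1 => hfA a ha h1 hf
  have hAn : ∀ b ∈ K, ∀ a ∈ A, b * a * b⁻¹ = a := fun b hb a ha => by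
    rw [mem_centralizer_iff.mp ha.2 b hb, mul_inv_cancel_right]
  by_cases hAK : A = K
  · -- abelian, fixed point free
    by_cases hdd : ∃ w ∈ V, dif x (k * w) = ⊤
    · obtain ⟨w, -, hw⟩ := hdd
      exact ok_of_dif_top hw
    push Not at hdd
    haveI : IsMulCommutative K := le_centralizer_iff_isMulCommutative.mp (inf_eq_left.mp hAK)
    obtain ⟨n, hn⟩ := hKq.exists_card_eq
    have hKr : ¬ r ∣ Nat.card K := fun hd => by
      rw [hn] at hd
      exact hqr ((Nat.prime_dvd_prime_iff_eq hr hq).mp (hr.dvd_of_dvd_pow hd)).symm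
    refine absurd (frobenius_count hp3 hxp hx1 hV.inv hKinv hVr hKr (fun a ha => hAf a (hAK ▸ ha)) hfree ?_) hV.ne_bot
    set a := k⁻¹ * x k with hadef
    have haK : a ∈ K := by have := mem_dif (x := x) k 1; rwa [pow_one] at this
    have hcompl : ∀ D : Subgroup H, (∀ v ∈ V, v ∈ D → v = 1) → V ⊔ D = ⊤ → IsComplement' V D := fun D h1 h2 =>
      isComplement'_of_disjoint_and_mul_eq_univ (disjoint_def.mpr fun {v} hv hd => h1 v hv hd)
        (by rw [← normal_mul, h2, coe_top])
    have hcopVK : (Nat.card V).Coprime V.index := by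
      rw [(hcompl K hdisj hVK).symm.index_eq_card, hn]
      obtain ⟨m, hm⟩ := (show IsPGroup r V from fun v => ⟨1, Subtype.ext (by simpa using hVr v v.2)⟩).exists_card_eq
      rw [hm]
      exact Nat.Coprime.pow _ _ ((Nat.coprime_primes hr hq).mpr (Ne.symm hqr))
    have hspan : ∀ w ∈ V, ∃ c ∈ V ⊓ fx x, ∃ u ∈ V ⊓ fx x, w = k⁻¹ * c * k * u := by
      intro w hw
      set D := dif x (k * w) with hD
      have hMtop : V ⊔ orb x (k * w) = ⊤ := top_le_iff.mp (hkV ▸ sup_le le_sup_left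
        (orb_le (hV.inv.sup (inv_orb _)) (by
          have := mul_mem (mem_sup_right (S := V) (self_mem_orb (x := x) (k * w)))
            (mem_sup_left (T := orb x (k * w)) (V.inv_mem hw))
          rwa [mul_inv_cancel_right] at this)))
      have hVD : V ⊔ D = ⊤ := dif_top hT hV.inv (R := orb x k) hkV hMtop
      have hDn : (V ⊓ D).Normal := ⟨fun v hv g => by
        obtain ⟨v', hv', d, hd, rfl⟩ := mem_sup_of_normal_left.mp (hVD ▸ mem_top g : g ∈ V ⊔ D)
        have h1 : d * v * d⁻¹ ∈ V ⊓ D := ⟨hV.normal.conj_mem v hv.1 d, D.mul_mem (D.mul_mem hd hv.2) (D.inv_mem hd)⟩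
        rw [show v' * d * v * (v' * d)⁻¹ = v' * (d * v * d⁻¹) * v'⁻¹ by group, hVV v' hv' _ h1.1, mul_inv_cancel_right]
        exact h1⟩
      rcases hV.min _ hDn (hV.inv.inf (inv_dif _)) inf_le_left with h | h
      swap
      · exact absurd (top_le_iff.mp (hVD ▸ sup_le (inf_eq_left.mp h) le_rfl : (⊤ : Subgroup H) ≤ D)) (hdd w hw)
      obtain ⟨u, hu, huD⟩ := CfsgLib.complements_conj_of_abelian hcopVK (hcompl K hdisj hVK)
        (hcompl D (fun v hv hd => mem_bot.mp (h ▸ ⟨hv, hd⟩)) hVD)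
      have hconj : ∀ b ∈ K, u * b * u⁻¹ ∈ D := fun b hb => huD ▸ ⟨b, hb, rfl⟩
      have hback : ∀ d ∈ D, u⁻¹ * d * u ∈ K := fun d hd => by
        rw [← huD] at hd
        obtain ⟨b, hb, rfl⟩ := hd
        show u⁻¹ * (u * b * u⁻¹) * u ∈ K
        simpa [mul_assoc] using hb
      have hxu : x u = u := by
        refine (inv_mul_eq_one.mp (?_ : u⁻¹ * x u = 1)).symm
        have heV : u⁻¹ * x u ∈ V := V.mul_mem (V.inv_mem hu) (hV.inv u hu)
        refine hfree _ heV fun b hb => ?_
        obtain ⟨b', hb', rfl⟩ := ((le_of_eq hKinv.map_eq.symm) hb)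
        set e := u⁻¹ * x u with he
        have h2 : e * x b' * e⁻¹ ∈ K := by
          have := hback _ (inv_dif (x := x) (k * w) _ (hconj b' hb'))
          rw [map_mul, map_mul, map_inv] at this
          rw [he, show u⁻¹ * x u * x b' * (u⁻¹ * x u)⁻¹ = u⁻¹ * (x u * x b' * (x u)⁻¹) * u by group]
          exact this
        have h3 : e * x b' * e⁻¹ * (x b')⁻¹ = 1 := hdisj _
          (by rw [show e * x b' * e⁻¹ * (x b')⁻¹ = e * (x b' * e⁻¹ * (x b')⁻¹) by group]
              exact V.mul_mem heV (hV.normal.conj_mem _ (V.inv_mem heV) _))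
          (K.mul_mem h2 (K.inv_mem (hKinv b' hb')))
        exact (commutatorElement_eq_one_iff_mul_comm.mp (by rw [commutatorElement_def]; exact h3)).symm
      set z := w * u with hz
      have hzV : z ∈ V := V.mul_mem hw hu
      have h1 : z⁻¹ * a * x z ∈ K := by
        have := hback _ (mem_dif (x := x) (k * w) 1)
        rw [pow_one, map_mul] at this
        rw [hz, hadef, map_mul, hxu, show (w * u)⁻¹ * (k⁻¹ * x k) * (x w * u) = u⁻¹ * ((k * w)⁻¹ * (x k * x w)) * u by group]
        exact this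
      have h2 : a⁻¹ * z⁻¹ * a * x z = 1 := hdisj _
        (V.mul_mem (by simpa using hV.normal.conj_mem _ (V.inv_mem hzV) a⁻¹) (hV.inv z hzV))
        (by rw [show a⁻¹ * z⁻¹ * a * x z = a⁻¹ * (z⁻¹ * a * x z) by group]; exact K.mul_mem (K.inv_mem haK) h1)
      refine ⟨k * z * k⁻¹, ⟨hV.normal.conj_mem z hzV k, ?_⟩, u⁻¹,
        ⟨V.inv_mem hu, (fx x).inv_mem (mem_fx.mpr hxu)⟩, by rw [hz]; group⟩
      show k * z * k⁻¹ ∈ fx x
      rw [mem_fx, map_mul, map_mul, map_inv, show x z = a⁻¹ * z * a from by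
        have h3 := inv_eq_of_mul_eq_one_right h2
        rw [← h3]; group, hadef]
      group
    let f : ↥(V ⊓ fx x) × ↥(V ⊓ fx x) → V := fun cu => ⟨k⁻¹ * cu.1 * k * cu.2,
      V.mul_mem (by simpa using hV.normal.conj_mem _ cu.1.2.1 k⁻¹) cu.2.2.1⟩
    have hsurj : Function.Surjective f := fun w => by
      obtain ⟨c, hc, u, hu, e⟩ := hspan w w.2
      exact ⟨(⟨c, hc⟩, ⟨u, hu⟩), Subtype.ext e.symm⟩
    exact (Nat.card_le_card_of_surjective f hsurj).trans (Nat.card_prod _ _).le
  · have hP : ∀ b ∈ (A : Set H), V ⊔ orb x b ≠ ⊤ := fun b hb h => hAK (le_antisymm inf_le_left fun c hc => by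
      obtain ⟨w, hw, a, ha, e⟩ := mem_sup_of_normal_left.mp
        (h ▸ mem_top c : c ∈ V ⊔ orb x b)
      have haA : a ∈ A := orb_le hAinv hb ha
      have : w = 1 := hdisj w hw (by rw [show w = c * a⁻¹ by rw [← e]; group]; exact K.mul_mem hc (K.inv_mem haA.1))
      rw [this, one_mul] at e
      exact e ▸ haA)
    have hbrkA : brk x (A : Set H) = A := le_antisymm (brk_le_self hAinv) fun b hb => by
      obtain ⟨f, hf, c, hc, hff, rfl⟩ := exists_fixed_mul hxp hcop hAinv hb
      rw [hAf f hf hff, one_mul]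
      exact hc
    have hVA : ⁅V, A⁆ ≤ V := commutator_le_left V A
    have hn : ⁅V, A⁆.Normal := hnormal _
      (fun w hw u hu => by rw [hVV w hw u (hVA hu), mul_inv_cancel_right]; exact hu)
      (fun b hb u hu => by
        have : ⁅V, A⁆ ≤ ⁅V, A⁆.comap (MulAut.conj b).toMonoidHom := commutator_le.mpr fun v hv a ha => by
          show MulAut.conj b ⁅v, a⁆ ∈ ⁅V, A⁆
          rw [map_commutatorElement, MulAut.conj_apply, MulAut.conj_apply, hAn b hb a ha]
          exact commutator_mem_commutator (hV.normal.conj_mem v hv b) ha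
        exact this hu)
    refine reduce hxp hcop ih hV.inv hV.ne_bot fun v hv hf _ => fam hxp hcop ih hV.inv hP ?_ hf
    rw [hbrkA]
    rcases hV.min _ hn (hV.inv.commutator hAinv) hVA with h | h
    · rw [commutator_eq_bot_iff_le_centralizer] at h
      exact absurd (eq_bot_iff.mpr fun a ha => mem_bot.mpr (hfaith a ha.1 fun v hv =>
        (mem_centralizer_iff.mp (h hv) a ha).symm)) hAne
    · rwa [h]

end CfsgLib.FixGen
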