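import Cfsg.Agent.Lib.FixGen.Tools
import Cfsg.Agent.Lib.PSolvable
import Cfsg.Agent.Lib.MinSimpleOdd.FittingStructure

/-!
Fixed points of a coprime automorphism in `[H, x]`: all minimal invariant normal subgroups central.
-/

set_option autoImplicit false
set_option linter.unusedSectionVars false
set_option linter.unusedVariables false
set_option linter.style.haveILetI false
set_option maxHeartbeats 800000

namespace CfsgLib.FixGen

open Subgroup Cfsg
open scoped commutatorElement IsMulCommutative Pointwise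

universe u
variable {H : Type u} [Group H] [Finite H] {x : MulAut H}

theorem eq_top_of_sup_commutator {F : Type u} [Group F] [Finite F] [Group.IsNilpotent F] {M : Subgroup F}
    (h : M ⊔ _root_.commutator F = ⊤) : M = ⊤ := by
  rcases IsCoatomic.eq_top_or_exists_le_coatom M with h1 | ⟨N, hN, hle⟩
  · exact h1
  haveI : N.Normal := NormalizerCondition.normal_of_coatom N Group.normalizerCondition_of_isNilpotent hN
  have hNC : N ⊔ _root_.commutator F = ⊤ := top_le_iff.mp (h ▸ sup_le_sup_right hle _)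
  haveI : Nontrivial (F ⧸ N) := QuotientGroup.nontrivial_iff.mpr hN.1
  refine absurd ?_ (Group.IsSolvable.commutator_lt_top_of_nontrivial (F ⧸ N)).ne
  have h2 : (N ⊔ _root_.commutator F).map (QuotientGroup.mk' N) = ⊤ := by
    rw [hNC, map_top_of_surjective _ (QuotientGroup.mk'_surjective N)]
  rw [Subgroup.map_sup, QuotientGroup.map_mk'_self, bot_sup_eq, commutator_def, map_commutator,
    map_top_of_surjective _ (QuotientGroup.mk'_surjective N)] at h2
  exact h2

theorem le_of_le_sup_commutator {F M : Subgroup H} [Group.IsNilpotent F] (hMF : M ≤ F) (h : F ≤ M ⊔ ⁅F, F⁆) : F ≤ M := by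
  refine fun f hf => ?_
  have hc : (_root_.commutator F).map F.subtype = ⁅F, F⁆ := by
    rw [commutator_def, map_commutator, ← MonoidHom.range_eq_map, range_subtype]
  have h1 : M.subgroupOf F ⊔ _root_.commutator F = ⊤ := map_injective F.subtype_injective (by
    rw [Subgroup.map_sup, subgroupOf_map_subtype, inf_eq_left.mpr hMF, hc, ← MonoidHom.range_eq_map, range_subtype]
    exact le_antisymm (sup_le hMF (commutator_le_self F)) h)
  exact (eq_top_of_sup_commutator h1 ▸ mem_top (⟨f, hf⟩ : F) : (⟨f, hf⟩ : F) ∈ M.subgroupOf F)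

theorem comm_right {a b c : H} (h : ⁅a, c⁆ ∈ Subgroup.center H) : ⁅a, b * c⁆ = ⁅a, b⁆ * ⁅a, c⁆ := by
  rw [show ⁅a, b * c⁆ = ⁅a, b⁆ * (b * ⁅a, c⁆ * b⁻¹) by simp only [commutatorElement_def]; group,
    mem_center_iff.mp h b, mul_inv_cancel_right]

theorem comm_left {a b c : H} (h : ⁅b, c⁆ ∈ Subgroup.center H) : ⁅a * b, c⁆ = ⁅a, c⁆ * ⁅b, c⁆ := by
  rw [show ⁅a * b, c⁆ = (a * ⁅b, c⁆ * a⁻¹) * ⁅a, c⁆ by simp only [commutatorElement_def]; group,
    mem_center_iff.mp h a, mul_inv_cancel_right, mem_center_iff.mp h]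

theorem succ_step (k : H) (i : ℕ) :
    k⁻¹ * (x ^ (i + 1)) k = (k⁻¹ * (x ^ i) k) * (((x ^ i) k)⁻¹ * x ((x ^ i) k)) := by
  rw [pow_apply_comm]; group

/-- `k⁻¹ · xⁱ k` is a product of the `[xʲ k, x]`. -/
theorem brk_le_of_one {F M : Subgroup H} (hF : Inv x F) (h : ∀ k ∈ F, k⁻¹ * x k ∈ M) : brk x (F : Set H) ≤ M :=
  brk_le fun k hk => (closure_le _).mpr <| by
    rintro _ ⟨i, rfl⟩
    induction i with
    | zero => simp
    | succ i ih => rw [succ_step]; exact M.mul_mem ih (h _ (hF.pow i k hk))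

variable {p : ℕ} [hp : Fact p.Prime] (hxp : x ^ p = 1) (hcop : (Nat.card H).Coprime p)

include hxp hcop in
theorem central_fixed (hmin : ∀ V, MinInv x V → V ≤ Subgroup.center H ∧ V ≤ fx x) {N : Subgroup H} (hN : Inv x N)
    (hc : N ≤ Subgroup.center H) : N ≤ fx x := by
  haveI : IsMulCommutative N := le_centralizer_iff_isMulCommutative.mp (hc.trans (center_le_centralizer _))
  have hbn : (brk x (N : Set H)).Normal := ⟨fun b hb g => by
    rw [mem_center_iff.mp (hc (brk_le_self hN hb)) g, mul_inv_cancel_right]; exact hb⟩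
  have hb : brk x (N : Set H) = ⊥ := by
    by_contra hne
    obtain ⟨V, hVle, hV⟩ := exists_minInv hbn (inv_brk _) hne
    exact hV.ne_bot (eq_bot_iff.mpr fun v hv =>
      mem_bot.mpr (fixed_eq_one hxp hcop hN (hVle hv) ((hmin V hV).2 hv)))
  intro n hn
  have h1 : n⁻¹ * (x ^ 1) n = 1 := mem_bot.mp (hb ▸ mem_brk (P := (N : Set H)) hn 1)
  rw [pow_one, inv_mul_eq_one] at h1
  exact mem_fx.mpr h1.symm

include hxp hcop in
theorem case_central [Group.IsSolvable H] (ih : IH H p) (hp2 : p ≠ 2)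
    (hT : brk x ((⊤ : Subgroup H) : Set H) = ⊤) (hmin : ∀ V, MinInv x V → V ≤ Subgroup.center H ∧ V ≤ fx x) :
    Ok x := by
  by_contra hno
  haveI hFn : (fittingSubgroup H).Normal := CfsgLib.fittingSubgroup_normal
  haveI hFnil : Group.IsNilpotent (fittingSubgroup H) := CfsgLib.isNilpotent_fittingSubgroup
  set F := fittingSubgroup H with hFdef
  have hFi : Inv x F := fun f hf => by
    have := (CfsgLib.MinSimpleOdd.fitting_characteristic (S := H)).fixed x
    rw [hFdef, ← this] at hf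
    exact hf
  have hFi' : Inv x ⁅F, F⁆ := hFi.commutator hFi
  -- abelian subgroups of the derived group
  have ha : ∀ W : Subgroup H, W.Normal → Inv x W → IsMulCommutative W → W ≤ ⁅F, F⁆ → W ≤ Subgroup.center H := by
    intro W hWn hWi hWc hW
    by_contra hnc
    have hne : ⁅W, (⊤ : Subgroup H)⁆ ≠ ⊥ := fun h => hnc (by
      rw [commutator_eq_bot_iff_le_centralizer, coe_top, centralizer_univ] at h
      exact h)
    by_cases hall : ∀ k ∈ invSyl x, W ⊔ orb x k ≠ ⊤
    · exact hno (reduce hxp hcop ih (hWi.commutator Inv.top) hne fun v hv hf _ =>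
        fam hxp hcop ih hWi hall (by rwa [brk_invSyl hxp hcop hT]) hf)
    push Not at hall
    obtain ⟨k, hk, hkW⟩ := hall
    obtain ⟨q, hq, hOq, -⟩ := brk_dif_le_invSyl hk
    haveI := Fact.mk hq
    haveI : Group.IsNilpotent (orb x k : Subgroup H) := hOq.isNilpotent
    have hWF : W ≤ F := hW.trans (commutator_le_self F)
    have hFO : F ≤ F ⊓ orb x k := le_of_le_sup_commutator inf_le_left fun f hf => by
      obtain ⟨w, hw, o, ho, rfl⟩ := mem_sup_of_normal_left.mp (hkW ▸ mem_top f : f ∈ W ⊔ orb x k)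
      have hoF : o ∈ F := by
        have := F.mul_mem (F.inv_mem (hWF hw)) hf
        rwa [inv_mul_cancel_left] at this
      exact mul_mem (mem_sup_right (hW hw)) (mem_sup_left ⟨hoF, ho⟩)
    have hO : orb x k = ⊤ := top_le_iff.mp (hkW ▸ sup_le (hWF.trans (hFO.trans inf_le_right)) le_rfl)
    have hd := dif_top hT (W := ⊥) (fun b hb => by rw [mem_bot] at hb ⊢; rw [hb, map_one]) (R := orb x k)
      (by rw [bot_sup_eq, hO]) (k := k) (by rw [bot_sup_eq, hO])
    rw [bot_sup_eq] at hd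
    exact hno (ok_of_dif_top hd)
  -- the derived group is central
  have hF' : ⁅F, F⁆ ≤ Subgroup.center H := by
    by_contra hnc
    obtain ⟨N, ⟨⟨hNn, hNi, hNle, hNnc⟩, hNmin⟩⟩ := Set.Finite.exists_minimal
      (s := {U : Subgroup H | U.Normal ∧ Inv x U ∧ U ≤ ⁅F, F⁆ ∧ ¬ U ≤ Subgroup.center H}) (Set.toFinite _)
      ⟨_, inferInstance, hFi', le_rfl, hnc⟩
    haveI := hNn
    have hNF : N ≤ F := hNle.trans (commutator_le_self F)
    have hlt : ⁅N, F⁆ ≤ N := commutator_le_left N F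
    have h1 : ⁅N, F⁆ ≤ Subgroup.center H := by
      by_contra h
      exact hNnc ((eq_bot_of_commutator_eq hNF (le_antisymm hlt
        (hNmin ⟨inferInstance, hNi.commutator hFi, hlt.trans hNle, h⟩ hlt))).le.trans bot_le)
    have h2 : ⁅⁅N, F⁆, F⁆ = ⊥ :=
      commutator_eq_bot_iff_le_centralizer.mpr (h1.trans (center_le_centralizer _))
    have h3 : ⁅⁅F, F⁆, N⁆ = ⊥ :=
      commutator_commutator_eq_bot_of_rotate (by rw [commutator_comm F N]; exact h2) h2
    have h4 : ⁅N, N⁆ = ⊥ := le_bot_iff.mp (h3 ▸ commutator_mono hNle le_rfl)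
    exact hNnc (ha N hNn hNi (le_centralizer_iff_isMulCommutative.mp (commutator_eq_bot_iff_le_centralizer.mp h4)) hNle)
  have hF'fx : ⁅F, F⁆ ≤ fx x := central_fixed hxp hcop hmin hFi' hF'
  have hcF : ∀ a ∈ F, ∀ b ∈ F, ⁅a, b⁆ ∈ Subgroup.center H := fun a ha b hb => hF' (commutator_mem_commutator ha hb)
  have hfF : ∀ a ∈ F, ∀ b ∈ F, x ⁅a, b⁆ = ⁅a, b⁆ := fun a ha b hb =>
    mem_fx.mp (hF'fx (commutator_mem_commutator ha hb))
  have hdF : ∀ k ∈ F, k⁻¹ * x k ∈ F := fun k hk => F.mul_mem (F.inv_mem hk) (hFi k hk)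
  -- the quadratic condition
  have hd : ∀ k ∈ F, ∀ i j : ℕ, Commute (k⁻¹ * (x ^ i) k) (k⁻¹ * (x ^ j) k) := by
    intro k hk i j
    by_contra hnc
    set z := ⁅k⁻¹ * (x ^ i) k, k⁻¹ * (x ^ j) k⁆ with hz
    have hkF : ∀ i, k⁻¹ * (x ^ i) k ∈ F := fun i => F.mul_mem (F.inv_mem hk) (hFi.pow i k hk)
    have hzc := hcF _ (hkF i) _ (hkF j)
    have hzfx : x z = z := hfF _ (hkF i) _ (hkF j)
    have hzd : zpowers z ≤ dif x k ⊓ fx x := zpowers_le.mpr
      ⟨(dif x k).mul_mem ((dif x k).mul_mem ((dif x k).mul_mem (mem_dif k i) (mem_dif k j))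
        ((dif x k).inv_mem (mem_dif k i))) ((dif x k).inv_mem (mem_dif k j)), hzfx⟩
    haveI : (zpowers z).Normal := ⟨fun a ha g => by
      rw [mem_center_iff.mp ((zpowers_le.mpr hzc) ha) g, mul_inv_cancel_right]; exact ha⟩
    exact hno (reduce hxp hcop ih (N := zpowers z)
      (fun a ha => by rw [mem_fx.mp (hzd ha).2]; exact ha)
      (fun h => hnc (commutatorElement_eq_one_iff_commute.mp (zpowers_eq_bot.mp h)))
      fun v hv hf _ => dif_le_sig_of (hzd hv).1 hf)
  have hq : ∀ k ∈ F, ⁅k⁻¹ * x k, x (k⁻¹ * x k)⁆ = 1 := fun k hk => by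
    rw [commutatorElement_eq_one_iff_commute]
    have h1 := (Commute.inv_right (hd k hk 1 1)).mul_right (hd k hk 1 2)
    rw [pow_one, pow_two, MulAut.mul_apply] at h1
    rwa [map_mul, map_inv, show (x k)⁻¹ * x (x k) = (k⁻¹ * x k)⁻¹ * (k⁻¹ * x (x k)) by group]
  have hpol : ∀ a ∈ F, ∀ b ∈ F, ⁅a⁻¹ * x a, x (b⁻¹ * x b)⁆ = ⁅x (a⁻¹ * x a), b⁻¹ * x b⁆ := by
    intro a ha b hb
    set d1 := a⁻¹ * x a with hd1
    set d2 := b⁻¹ * x b with hd2
    have m1 : d1 ∈ F := hdF a ha
    have m2 : d2 ∈ F := hdF b hb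
    set z := ⁅d1⁻¹, b⁻¹⁆ with hz
    have hzc : z ∈ Subgroup.center H := hcF _ (F.inv_mem m1) _ (F.inv_mem hb)
    have hxz : x z = z := hfF _ (F.inv_mem m1) _ (F.inv_mem hb)
    have e : (a * b)⁻¹ * x (a * b) = d1 * d2 * z := by
      rw [show d1 * d2 * z = d1 * (d2 * z) by group, mem_center_iff.mp hzc d2, hz, hd1, hd2, map_mul,
        commutatorElement_def]
      group
    have h := hq (a * b) (F.mul_mem ha hb)
    rw [e, map_mul, map_mul, hxz] at h
    have n1 : x d1 ∈ F := hFi _ m1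
    have n2 : x d2 ∈ F := hFi _ m2
    have z1 : ∀ c : H, ⁅c, z⁆ = 1 := fun c => commutatorElement_eq_one_iff_mul_comm.mpr (mem_center_iff.mp hzc c)
    have z2 : ∀ c : H, ⁅z, c⁆ = 1 := fun c => commutatorElement_eq_one_iff_mul_comm.mpr (mem_center_iff.mp hzc c).symm
    rw [comm_left (by rw [z2]; exact one_mem _), z2, mul_one, comm_right (by rw [z1]; exact one_mem _), z1, mul_one,
      comm_left (hcF _ m2 _ (F.mul_mem n1 n2)), comm_right (hcF _ m1 _ n2), comm_right (hcF _ m2 _ n2),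
      hq a ha, hq b hb, one_mul, mul_one] at h
    rw [← commutatorElement_inv d2 (x d1)]
    exact eq_inv_of_mul_eq_one_left h
  -- the centre of `F`
  set Z := F ⊓ centralizer (F : Set H) with hZ
  have hZi : Inv x Z := hFi.inf hFi.centralizer
  have hZc : ∀ z ∈ Z, ∀ f ∈ F, z * f = f * z := fun z hz f hf => (mem_centralizer_iff.mp hz.2 f hf).symm
  have hE : ∀ k ∈ F, (k⁻¹ * x k)⁻¹ * x (x (k⁻¹ * x k)) ∈ Z := by
    intro k hk
    set d := k⁻¹ * x k with hdd
    have md : d ∈ F := hdF k hk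
    have me : d⁻¹ * x (x d) ∈ F := F.mul_mem (F.inv_mem md) (hFi _ (hFi _ md))
    refine ⟨me, ?_⟩
    have hz : ∀ a ∈ F, ⁅a, x (x d)⁆ = ⁅a, d⁆ → a ∈ centralizer {d⁻¹ * x (x d)} := fun a ha e => by
      rw [mem_centralizer_singleton_iff, ← commutatorElement_eq_one_iff_mul_comm,
        comm_right (hcF _ ha _ (hFi _ (hFi _ md))), e, ← comm_right (hcF _ ha _ md), inv_mul_cancel,
        commutatorElement_one_right]
    have hb : brk x (F : Set H) ≤ centralizer {d⁻¹ * x (x d)} := brk_le_of_one hFi fun a ha => by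
      refine hz _ (hdF a ha) ?_
      have h1 := hpol a ha (x k) (hFi k hk)
      rw [← map_inv, ← map_mul, ← hdd, ← map_commutatorElement] at h1
      rw [h1, hfF _ (hdF a ha) _ md]
    refine mem_centralizer_iff.mpr fun f hf => ?_
    obtain ⟨c, hc, b, hb', hcf, rfl⟩ := exists_fixed_mul hxp hcop hFi hf
    refine mem_centralizer_singleton_iff.mp ((centralizer _).mul_mem (hz c hc ?_) (hb hb'))
    calc ⁅c, x (x d)⁆ = ⁅x (x c), x (x d)⁆ := by rw [mem_fx.mp hcf, mem_fx.mp hcf]
      _ = x (x ⁅c, d⁆) := by rw [map_commutatorElement, map_commutatorElement]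
      _ = _ := by rw [hfF _ hc _ md, hfF _ hc _ md]
  have hbrk : brk x (F : Set H) ≤ Z := brk_le_of_one hFi fun k hk => by
    obtain ⟨d, hdd⟩ : ∃ d, d = k⁻¹ * x k := ⟨_, rfl⟩
    rw [← hdd]
    have md : d ∈ F := hdd ▸ hdF k hk
    have h2 : ∀ j : ℕ, d⁻¹ * (x ^ (2 * j)) d ∈ Z := fun j => by
      induction j with
      | zero => simp
      | succ j ih =>
        rw [show 2 * (j + 1) = 2 + 2 * j by ring, pow_add, pow_two, MulAut.mul_apply, MulAut.mul_apply,
          show d⁻¹ * x (x ((x ^ (2 * j)) d)) = (d⁻¹ * x (x d)) * x (x (d⁻¹ * (x ^ (2 * j)) d)) by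
            rw [map_mul, map_mul, map_inv, map_inv]; group]
        exact Z.mul_mem (hdd ▸ hE k hk) (hZi _ (hZi _ ih))
    have h1 : d⁻¹ * x d ∈ Z := by
      obtain ⟨m, hm⟩ := hp.out.odd_of_ne_two hp2
      have := h2 (m + 1)
      rwa [show 2 * (m + 1) = p + 1 by omega, pow_add, hxp, one_mul, pow_one] at this
    have h3 : ∀ i : ℕ, d⁻¹ * (x ^ i) d ∈ Z := fun i => by
      induction i with
      | zero => simp
      | succ i ih =>
        rw [← pow_apply_comm, show d⁻¹ * x ((x ^ i) d) = (d⁻¹ * x d) * x (d⁻¹ * (x ^ i) d) by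
          rw [map_mul, map_inv]; group]
        exact Z.mul_mem h1 (hZi _ ih)
    have h4 : ∀ i : ℕ, (d ^ i)⁻¹ * (k⁻¹ * (x ^ i) k) ∈ Z := fun i => by
      induction i with
      | zero => simp
      | succ i ih =>
        have hc := hZc _ ih _ (F.inv_mem md)
        rw [show (d ^ (i + 1))⁻¹ * (k⁻¹ * (x ^ (i + 1)) k) =
          d⁻¹ * ((d ^ i)⁻¹ * (k⁻¹ * (x ^ i) k)) * (x ^ i) d by
            rw [hdd, map_mul (x ^ i), map_inv, ← MulAut.mul_apply, ← pow_succ, pow_succ (k⁻¹ * x k) i]; group,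
          ← hc, mul_assoc]
        exact Z.mul_mem ih (h3 i)
    have h5 := h4 p
    rw [hxp, MulAut.one_apply, inv_mul_cancel, mul_one] at h5
    exact mem_of_pow hcop (inv_inv (d ^ p) ▸ Z.inv_mem h5)
  -- the nilpotent case
  have hnil : ¬ Group.IsNilpotent H := fun hn => by
    have hFtop : F = ⊤ := top_le_iff.mp (CfsgLib.le_fittingSubgroup
      (Group.nilpotent_of_surjective (topEquiv (G := H)).symm.toMonoidHom (MulEquiv.surjective _)))
    have h1 : (⊤ : Subgroup H) ≤ Subgroup.center H := by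
      rw [← hT, ← hFtop]
      refine hbrk.trans (inf_le_right.trans ?_)
      rw [hFtop, coe_top, centralizer_univ]
    haveI : IsMulCommutative (⊤ : Subgroup H) :=
      le_centralizer_iff_isMulCommutative.mp (h1.trans (center_le_centralizer _))
    refine hno fun c hc => ?_
    rw [fixed_eq_one hxp hcop Inv.top hc.1 hc.2]
    exact one_mem _
  haveI hZn : Z.Normal := inferInstanceAs (F ⊓ centralizer (F : Set H)).Normal
  haveI : IsMulCommutative Z := le_centralizer_iff_isMulCommutative.mp fun z hz =>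
    mem_centralizer_iff.mpr fun w hw => hZc w hw z hz.1
  have hZcenter : Z ≤ Subgroup.center H := by
    by_contra hnc
    have hne : ⁅Z, (⊤ : Subgroup H)⁆ ≠ ⊥ := fun h => hnc (by
      rw [commutator_eq_bot_iff_le_centralizer, coe_top, centralizer_univ] at h
      exact h)
    by_cases hall : ∀ k ∈ invSyl x, Z ⊔ orb x k ≠ ⊤
    · exact hno (reduce hxp hcop ih (hZi.commutator Inv.top) hne fun v hv hf _ =>
        fam hxp hcop ih hZi hall (by rwa [brk_invSyl hxp hcop hT]) hf)
    push Not at hall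
    obtain ⟨k, hk, hkZ⟩ := hall
    obtain ⟨q, hq, hOq, -⟩ := brk_dif_le_invSyl hk
    haveI := Fact.mk hq
    set m := ordCompl[q] (Nat.card H) with hm
    let W : Subgroup H :=
      { carrier := {w | w ∈ Z ∧ w ^ m = 1}
        one_mem' := ⟨Z.one_mem, one_pow m⟩
        mul_mem' := fun {a b} ha hb => ⟨Z.mul_mem ha.1 hb.1, by
          rw [Commute.mul_pow (hZc a ha.1 b hb.1.1), ha.2, hb.2, one_mul]⟩
        inv_mem' := fun {a} ha => ⟨Z.inv_mem ha.1, by rw [inv_pow, ha.2, inv_one]⟩ }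
    haveI hWn : W.Normal := ⟨fun w hw g => ⟨hZn.conj_mem w hw.1 g, by
      rw [← MulAut.conj_apply, ← map_pow, hw.2, map_one]⟩⟩
    haveI : IsMulCommutative W := le_centralizer_iff_isMulCommutative.mp fun z hz =>
      mem_centralizer_iff.mpr fun w hw => hZc w hw.1 z hz.1.1
    have hWi : Inv x W := fun w hw => ⟨hZi w hw.1, by rw [← map_pow, hw.2, map_one]⟩
    have hWc : W ≤ Subgroup.center H := by
      have hN : ⁅W, (⊤ : Subgroup H)⁆ = ⊥ := by
        by_contra hne'
        obtain ⟨V, hVle, hV⟩ := exists_minInv inferInstance (hWi.commutator Inv.top) hne'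
        obtain ⟨v, hv, hv1⟩ := (ne_bot_iff_exists_ne_one.mp hV.ne_bot : ∃ v : V, v ≠ 1) |>
          (fun ⟨v, h⟩ => ⟨(v : H), v.2, fun e => h (Subtype.ext e)⟩ : _ → ∃ v ∈ V, v ≠ 1)
        haveI := Fintype.ofFinite (orb x k : Subgroup H)
        let θ : W →* W :=
          { toFun := fun a => ∏ s : (orb x k : Subgroup H), MulAut.conjNormal (s : H) a
            map_one' := by simp
            map_mul' := fun a b => by simp [Finset.prod_mul_distrib] }
        have hle : ⁅W, (⊤ : Subgroup H)⁆ ≤ θ.ker.map W.subtype := commutator_le.mpr fun a ha g _ => by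
          obtain ⟨w, hw, t, ht, rfl⟩ := mem_sup_of_normal_left.mp (hkZ ▸ mem_top g : g ∈ Z ⊔ orb x k)
          refine ⟨⟨a, ha⟩ * (MulAut.conjNormal t ⟨a, ha⟩)⁻¹, MonoidHom.mem_ker.mpr ?_, ?_⟩
          · have h1 : θ (MulAut.conjNormal t ⟨a, ha⟩) = θ ⟨a, ha⟩ := by
              show ∏ s : (orb x k : Subgroup H), MulAut.conjNormal (s : H) (MulAut.conjNormal t (⟨a, ha⟩ : W)) = _
              simp only [← MulAut.mul_apply, ← map_mul]
              exact Fintype.prod_equiv (Equiv.mulRight (⟨t, ht⟩ : (orb x k : Subgroup H))) _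
                (fun s : (orb x k : Subgroup H) => MulAut.conjNormal (s : H) (⟨a, ha⟩ : W)) fun s => rfl
            rw [map_mul, map_inv, h1, mul_inv_cancel]
          · show a * (t * a * t⁻¹)⁻¹ = ⁅a, w * t⁆
            have h2 : Commute a w := hZc a ha.1 w hw.1
            have h3 : Commute w (a * (t * a * t⁻¹)⁻¹) :=
              hZc w hw _ (Z.mul_mem ha.1 (Z.inv_mem (hZn.conj_mem a ha.1 t))).1
            rw [commutatorElement_def, show a * (w * t) * a⁻¹ * (w * t)⁻¹ =
              (a * w) * t * a⁻¹ * t⁻¹ * w⁻¹ by group, h2.eq, show w * a * t * a⁻¹ * t⁻¹ * w⁻¹ =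
              w * (a * (t * a * t⁻¹)⁻¹) * w⁻¹ by group, h3.eq, mul_inv_cancel_right]
        obtain ⟨v', hv', rfl⟩ := hle (hVle hv)
        have hvc : (v' : H) ∈ Subgroup.center H := (hmin V hV).1 hv
        have hθ : θ v' = v' ^ Nat.card (orb x k : Subgroup H) := by
          show ∏ s : (orb x k : Subgroup H), MulAut.conjNormal (s : H) v' = _
          rw [Fintype.prod_congr (fun s : (orb x k : Subgroup H) => MulAut.conjNormal (s : H) v') (fun _ => v')
            fun s => Subtype.ext (by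
              show (s : H) * (v' : H) * (s : H)⁻¹ = v'
              rw [mem_center_iff.mp hvc, mul_inv_cancel_right])]
          rw [Finset.prod_const, Finset.card_univ, ← Nat.card_eq_fintype_card]
        obtain ⟨n, hn⟩ := hOq.exists_card_eq
        rw [MonoidHom.mem_ker.mp hv', hn] at hθ
        have h5 : (v' : H) ^ q ^ n = 1 := by rw [← SubmonoidClass.coe_pow, ← hθ, OneMemClass.coe_one]
        refine hv1 (orderOf_eq_one_iff.mp (Nat.eq_one_of_dvd_coprimes
          (Nat.Coprime.pow_left n (Nat.coprime_ordCompl hq Nat.card_pos.ne'))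
          (orderOf_dvd_of_pow_eq_one h5) (orderOf_dvd_of_pow_eq_one v'.2.2)))
      rwa [commutator_eq_bot_iff_le_centralizer, coe_top, centralizer_univ] at hN
    refine hnil ?_
    let π := QuotientGroup.mk' (Subgroup.center H)
    have hπ : Function.Surjective π := QuotientGroup.mk'_surjective _
    haveI : (Z.map π).Normal := hZn.map π hπ
    have hZq : IsPGroup q (Z.map π) := by
      rintro ⟨_, w, hw, rfl⟩
      refine ⟨(Nat.card H).factorization q, Subtype.ext ?_⟩
      rw [SubmonoidClass.coe_pow, ← map_pow, OneMemClass.coe_one]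
      refine (QuotientGroup.eq_one_iff _).mpr (hWc ⟨Z.pow_mem hw _, ?_⟩)
      rw [← pow_mul, Nat.ordProj_mul_ordCompl_eq_self, pow_card_eq_one']
    have h1 := hZq.to_sup_of_normal_left (hOq.map π)
    rw [← Subgroup.map_sup, hkZ, map_top_of_surjective _ hπ] at h1
    exact Group.of_quotient_center_nilpotent (h1.of_equiv topEquiv).isNilpotent
  -- `F` is central modulo the centre
  have hbc : ∀ f ∈ F, ∀ i : ℕ, f⁻¹ * (x ^ i) f ∈ Subgroup.center H := fun f hf i =>
    hZcenter (hbrk (mem_brk (P := (F : Set H)) hf i))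
  let M : Subgroup H :=
    { carrier := {g | ∀ f ∈ F, ⁅f, g⁆ ∈ Subgroup.center H}
      one_mem' := fun f _ => by simp
      mul_mem' := fun {a b} ha hb f hf => by
        rw [comm_right (hb f hf)]; exact mul_mem (ha f hf) (hb f hf)
      inv_mem' := fun {a} ha f hf => by
        rw [show ⁅f, a⁻¹⁆ = a⁻¹ * ⁅f, a⁆⁻¹ * a⁻¹⁻¹ by simp only [commutatorElement_def]; group]
        exact (inferInstance : (Subgroup.center H).Normal).conj_mem _ ((Subgroup.center H).inv_mem (ha f hf)) _ }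
  have hM : ∀ g, g ∈ M := fun g => by
    have : brk x ((⊤ : Subgroup H) : Set H) ≤ M := (closure_le _).mpr fun _ ⟨k, _, i, e⟩ f hf => by
      subst e
      set z2 := f⁻¹ * (x ^ i) f with hz2
      set z1 := (k * f * k⁻¹)⁻¹ * (x ^ i) (k * f * k⁻¹) with hz1
      have hc2 : z2 ∈ Subgroup.center H := hbc f hf i
      have hc1 : z1 ∈ Subgroup.center H := hbc _ (hFn.conj_mem f hf k) i
      set u := k⁻¹ * (x ^ i) k with hu
      have he : u * f * u⁻¹ * z2 = f * z1 := by
        rw [mul_assoc (u * f), mem_center_iff.mp hc2 u⁻¹, hz2, hu,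
          show f * z1 = k⁻¹ * (k * f * k⁻¹) * z1 * k by
            rw [mul_assoc _ z1 k, ← mem_center_iff.mp hc1 k]; group, hz1, map_mul, map_mul, map_inv]
        group
      rw [show ⁅f, u⁆ = f * (u * f * u⁻¹)⁻¹ by simp only [commutatorElement_def]; group,
        eq_mul_inv_of_mul_eq he, show f * (f * z1 * z2⁻¹)⁻¹ = f * (z2 * z1⁻¹) * f⁻¹ by group]
      exact (inferInstance : (Subgroup.center H).Normal).conj_mem _ (mul_mem hc2 (inv_mem hc1)) f
    exact this ((le_of_eq hT.symm) (mem_top g))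
  have h6 : ⁅F, (⊤ : Subgroup H)⁆ ≤ Subgroup.center H := commutator_le.mpr fun f hf g _ => hM g f hf
  have h7 : ⁅⁅F, (⊤ : Subgroup H)⁆, (⊤ : Subgroup H)⁆ = ⊥ :=
    commutator_eq_bot_iff_le_centralizer.mpr (h6.trans (center_le_centralizer _))
  have h8 : ⁅⁅(⊤ : Subgroup H), ⊤⁆, F⁆ = ⊥ :=
    commutator_commutator_eq_bot_of_rotate (by rw [commutator_comm ⊤ F]; exact h7) h7
  have h9 : ⁅(⊤ : Subgroup H), ⊤⁆ ≤ F :=
    (commutator_eq_bot_iff_le_centralizer.mp h8).trans CfsgLib.centralizer_fitting_le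
  refine hnil (Subgroup.nilpotent_iff_lowerCentralSeries.mpr ⟨3, le_bot_iff.mp ?_⟩)
  simp only [Subgroup.lowerCentralSeries_succ, Subgroup.lowerCentralSeries_zero]
  exact (commutator_mono (commutator_mono h9 le_rfl) le_rfl).trans h7.le

end CfsgLib.FixGen
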