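import Cfsg.Agent.Lib.FixGen.CaseOne
import Cfsg.Agent.Lib.FixGen.CaseTwo

/-!
The fixed points in `[H, x]` are generated by the fixed points in the `[h, x]`.
-/

set_option autoImplicit false

namespace CfsgLib.FixGen

open Subgroup

universe u

theorem ok_of_solvable {p : ℕ} [hp : Fact p.Prime] (hp2 : p ≠ 2) :
    ∀ (n : ℕ) (H : Type u) [Group H] [Finite H], Nat.card H = n → Group.IsSolvable H → (Nat.card H).Coprime p →
      ∀ x : MulAut H, x ^ p = 1 → Ok x := by
  intro n
  induction n using Nat.strong_induction_on with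
  | _ n IHn =>
    intro H _ _ hn hsol hcop x hxp
    have ih : IH H p := fun K _ _ hlt hK hKcop y hy => IHn _ (hn ▸ hlt) K rfl hK hKcop y hy
    by_cases hT : brk x ((⊤ : Subgroup H) : Set H) = ⊤
    · by_cases htriv : (⊤ : Subgroup H) = ⊥
      · intro c hc
        rw [mem_bot.mp (htriv ▸ mem_top c : c ∈ (⊥ : Subgroup H))]
        exact one_mem _
      have hx1 : x ≠ 1 := by
        rintro rfl
        refine htriv (hT.symm.trans (eq_bot_iff.mpr ((closure_le _).mpr ?_)))
        rintro _ ⟨k, -, i, rfl⟩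
        simp
      by_cases hnc : ∃ V, MinInv x V ∧ ¬ V ≤ Subgroup.center H
      · obtain ⟨V, hV, hVc⟩ := hnc
        have hp3 : 3 ≤ p := by have := hp.out.two_le; omega
        exact case_noncentral hxp hcop ih hp3 hx1 hT hV hVc
      push Not at hnc
      by_cases hfree : ∃ V, MinInv x V ∧ V ⊓ fx x = ⊥
      · obtain ⟨V, hV, hVf⟩ := hfree
        haveI := hV.normal
        refine reduce hxp hcop ih hV.inv hV.ne_bot fun v hv hf _ => ?_
        rw [mem_bot.mp (hVf ▸ ⟨hv, hf⟩ : v ∈ (⊥ : Subgroup H))]
        exact one_mem _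
      push Not at hfree
      refine case_central hxp hcop ih hp2 hT fun V hV => ⟨hnc V hV, ?_⟩
      have hn : (V ⊓ fx x).Normal := ⟨fun v hv g => by
        rw [mem_center_iff.mp (hnc V hV hv.1) g, mul_inv_cancel_right]; exact hv⟩
      rcases hV.min _ hn (hV.inv.inf inv_fx) inf_le_left with h | h
      · exact absurd h (hfree V hV)
      · exact inf_eq_left.mp h
    · intro c hc
      have := proper hxp hcop ih (inv_brk (x := x) ((⊤ : Subgroup H) : Set H)) hT
      rw [brk_brk hxp hcop Inv.top] at this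
      exact this hc

/-- The fixed points in `[H, x]` are generated by those in the `[h, x]`. -/
theorem fixed_inf_eq {H : Type u} [Group H] [Finite H] [Group.IsSolvable H] {p : ℕ} [Fact p.Prime] (hp2 : p ≠ 2)
    (hcop : (Nat.card H).Coprime p) (x : MulAut H) (hxp : x ^ p = 1) :
    brk x ((⊤ : Subgroup H) : Set H) ⊓ fx x = sig x :=
  le_antisymm (ok_of_solvable hp2 _ H rfl inferInstance hcop x hxp) (le_inf sig_le_brk sig_le_fx)

end CfsgLib.FixGen
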