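import Cfsg.Agent.Lib.FixGen.Basic

/-!
Fixed points of a coprime automorphism in `[H, x]`: invariant Sylow subgroups and minimal invariant normal subgroups.
-/

set_option autoImplicit false
set_option linter.unusedSectionVars false
set_option linter.unusedVariables false
set_option linter.style.haveILetI false

namespace CfsgLib.FixGen

open Subgroup
open scoped commutatorElement IsMulCommutative Pointwise

universe u
variable {H : Type u} [Group H] [Finite H] {x : MulAut H}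

/-- The elements of the invariant Sylow subgroups. -/
def invSyl (x : MulAut H) : Set H :=
  {k | ∃ q : ℕ, q.Prime ∧ ∃ Q : Sylow q H, Inv x (Q : Subgroup H) ∧ k ∈ Q}

theorem eq_top_of_sylows {T : Subgroup H} (h : ∀ q : ℕ, q.Prime → ∃ Q : Sylow q H, (Q : Subgroup H) ≤ T) :
    T = ⊤ := by
  rw [← index_eq_one]
  by_contra hne
  obtain ⟨q, hq, hqd⟩ := Nat.exists_prime_and_dvd hne
  haveI := Fact.mk hq
  obtain ⟨Q, hQ⟩ := h q hq
  exact Q.not_dvd_index (hqd.trans (index_dvd_of_le hQ))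

theorem mem_normalizer_of {L : Subgroup H} {g : H} (h : ∀ c ∈ L, g⁻¹ * c * g ∈ L) : g ∈ normalizer (L : Set H) := by
  have h1 : g⁻¹ ∈ normalizer (L : Set H) := by
    rw [mem_normalizer_iff_map_conj_eq]
    refine eq_of_le_of_card_ge ?_ (card_map_of_injective (MulAut.conj g⁻¹).injective).ge
    rintro _ ⟨c, hc, rfl⟩
    show g⁻¹ * c * g⁻¹⁻¹ ∈ L
    rw [inv_inv]
    exact h c hc
  exact inv_inv g ▸ inv_mem h1

/-- The elements `g` with all `g⁻¹ · xⁱ g` in a normal subgroup. -/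
def tsub (x : MulAut H) (N : Subgroup H) [N.Normal] : Subgroup H where
  carrier := {g | ∀ i : ℕ, g⁻¹ * (x ^ i) g ∈ N}
  one_mem' := fun i => by simp
  mul_mem' := fun {a b} ha hb i => by
    rw [map_mul, show (a * b)⁻¹ * ((x ^ i) a * (x ^ i) b) =
      b⁻¹ * (a⁻¹ * (x ^ i) a) * (b⁻¹)⁻¹ * (b⁻¹ * (x ^ i) b) by group]
    exact N.mul_mem ((inferInstance : N.Normal).conj_mem _ (ha i) _) (hb i)
  inv_mem' := fun {a} ha i => by
    rw [map_inv, show a⁻¹⁻¹ * ((x ^ i) a)⁻¹ = a * (a⁻¹ * (x ^ i) a)⁻¹ * a⁻¹ by group]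
    exact (inferInstance : N.Normal).conj_mem _ (N.inv_mem (ha i)) _

theorem brk_top_le {N : Subgroup H} [N.Normal] (h : tsub x N = ⊤) : brk x ((⊤ : Subgroup H) : Set H) ≤ N :=
  (closure_le _).mpr fun _ ⟨k, _, i, e⟩ => e ▸ (h ▸ mem_top k : k ∈ tsub x N) i

theorem le_tsub {N K : Subgroup H} [N.Normal] (hK : Inv x K) (hKN : K ≤ N) : K ≤ tsub x N :=
  fun k hk i => N.mul_mem (N.inv_mem (hKN hk)) (hKN (hK.pow i k hk))

theorem orb_le_tsub {N : Subgroup H} [N.Normal] {k : H} (h : dif x k ≤ N) : orb x k ≤ tsub x N :=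
  (closure_le _).mpr fun _ ⟨j, e⟩ i => by
    subst e
    rw [show ((x ^ j) k)⁻¹ * (x ^ i) ((x ^ j) k) = (k⁻¹ * (x ^ j) k)⁻¹ * (k⁻¹ * (x ^ i) ((x ^ j) k)) by group,
      ← MulAut.mul_apply, ← pow_add]
    exact N.mul_mem (N.inv_mem (h (mem_dif k j))) (h (mem_dif k _))

theorem inv_zpow_mem {y : MulAut H} {K : Subgroup H} (hy : y • K = K) : Inv y K := fun k hk => by
  have := smul_mem_pointwise_smul k y K hk
  rwa [hy] at this

variable {p : ℕ} [hp : Fact p.Prime] (hxp : x ^ p = 1) (hcop : (Nat.card H).Coprime p)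

include hxp hcop in
theorem exists_inv_sylow (q : ℕ) [Fact q.Prime] : ∃ Q : Sylow q H, Inv x (Q : Subgroup H) := by
  classical
  haveI := Fintype.ofFinite (Sylow q H)
  let σ : Equiv.Perm (Sylow q H) := MulAction.toPermHom (MulAut H) (Sylow q H) x
  have hσ : σ ^ p ^ 1 = 1 := by rw [pow_one, ← map_pow, hxp, map_one]
  have hd : ¬ p ∣ Fintype.card (Sylow q H) := fun hd => by
    rw [← Nat.card_eq_fintype_card] at hd
    exact hp.out.not_dvd_one (hcop ▸ Nat.dvd_gcd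
      (hd.trans ((Sylow.card_dvd_index default).trans (index_dvd_card _))) dvd_rfl)
  obtain ⟨Q, hQ⟩ := Equiv.Perm.exists_fixed_point_of_prime hd hσ
  have h1 : x • Q = Q := hQ
  exact ⟨Q, inv_zpow_mem (congrArg Sylow.toSubgroup h1)⟩

include hxp hcop in
/-- `[H, x]` is generated by the invariant Sylow subgroups. -/
theorem brk_invSyl (hT : brk x ((⊤ : Subgroup H) : Set H) = ⊤) : brk x (invSyl x) = ⊤ := by
  set L := brk x (invSyl x) with hL
  have hfxN : ∀ c ∈ fx x, c ∈ normalizer (L : Set H) := fun c hc => mem_normalizer_of fun a ha => by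
    induction ha using closure_induction with
    | mem a ha =>
      obtain ⟨k, ⟨q, hq, Q, hQ, hk⟩, i, rfl⟩ := ha
      rw [show c⁻¹ * (k⁻¹ * (x ^ i) k) * c = (c⁻¹ * k * c)⁻¹ * (x ^ i) (c⁻¹ * k * c) by
        rw [map_mul, map_mul, map_inv, fx_pow hc]; group]
      refine mem_brk (P := invSyl x) ⟨q, hq, MulAut.conj c⁻¹ • Q, ?_, ?_⟩ i
      · rintro a ha
        obtain ⟨b, hb, rfl⟩ := ha
        refine ⟨x b, hQ b hb, ?_⟩
        show c⁻¹ * x b * c⁻¹⁻¹ = x (c⁻¹ * b * c⁻¹⁻¹)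
        rw [map_mul, map_mul, map_inv, map_inv, map_inv, mem_fx.mp hc]
      · exact ⟨k, hk, by show c⁻¹ * k * c⁻¹⁻¹ = _; rw [inv_inv]⟩
    | one => simp
    | mul a b _ _ ha hb => rw [show c⁻¹ * (a * b) * c = (c⁻¹ * a * c) * (c⁻¹ * b * c) by group]; exact mul_mem ha hb
    | inv a _ ha => rw [show c⁻¹ * a⁻¹ * c = (c⁻¹ * a * c)⁻¹ by group]; exact inv_mem ha
  have hQN : ∀ q : ℕ, ∀ hq : q.Prime, ∀ Q : Sylow q H, Inv x (Q : Subgroup H) →
      (Q : Subgroup H) ≤ normalizer (L : Set H) := fun q hq Q hQ k hk => by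
    obtain ⟨f, -, b, hb, hf, rfl⟩ := exists_fixed_mul hxp hcop hQ hk
    exact mul_mem (hfxN f hf) (le_normalizer (brk_mono (Q := invSyl x) (fun a ha => ⟨q, hq, Q, hQ, ha⟩) hb))
  have hN : normalizer (L : Set H) = ⊤ := eq_top_of_sylows fun q hq => by
    haveI := Fact.mk hq
    obtain ⟨Q, hQ⟩ := exists_inv_sylow hxp hcop (H := H) q
    exact ⟨Q, hQN q hq Q hQ⟩
  haveI : L.Normal := normalizer_eq_top_iff.mp hN
  have htsub : tsub x L = ⊤ := eq_top_of_sylows fun q hq => by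
    haveI := Fact.mk hq
    obtain ⟨Q, hQ⟩ := exists_inv_sylow hxp hcop (H := H) q
    exact ⟨Q, fun k hk i => mem_brk (P := invSyl x) ⟨q, hq, Q, hQ, hk⟩ i⟩
  exact top_le_iff.mp (hT ▸ brk_top_le htsub)

/-- If `H / W` is nilpotent and `W` with an orbit generates, then so does `W` with its `[k, x]`. -/
theorem dif_top (hT : brk x ((⊤ : Subgroup H) : Set H) = ⊤) {W R : Subgroup H} [W.Normal] (hW : Inv x W)
    [Group.IsNilpotent R] (hR : W ⊔ R = ⊤) {k : H} (hk : W ⊔ orb x k = ⊤) : W ⊔ dif x k = ⊤ := by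
  by_contra hne
  have hsurj : Function.Surjective ((QuotientGroup.mk' W).comp R.subtype) := fun a => by
    induction a using QuotientGroup.induction_on with
    | _ g =>
      obtain ⟨w, hw, r, hr, rfl⟩ := mem_sup_of_normal_left.mp (hR ▸ mem_top g : g ∈ W ⊔ R)
      refine ⟨⟨r, hr⟩, QuotientGroup.eq.mpr ?_⟩
      have h1 : W.Normal := inferInstance
      simpa [mul_assoc] using h1.conj_mem w hw r⁻¹
  haveI : Group.IsNilpotent (H ⧸ W) := Group.nilpotent_of_surjective _ hsurj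
  rcases IsCoatomic.eq_top_or_exists_le_coatom ((W ⊔ dif x k).map (QuotientGroup.mk' W)) with h | ⟨N, hN, hle⟩
  · refine hne (top_le_iff.mp fun g _ => ?_)
    obtain ⟨d, hd, e⟩ := (h ▸ mem_top _ : QuotientGroup.mk' W g ∈ (W ⊔ dif x k).map (QuotientGroup.mk' W))
    have h2 : d⁻¹ * g ∈ W := QuotientGroup.eq.mp e
    have := mul_mem hd (mem_sup_left (T := dif x k) h2)
    rwa [mul_inv_cancel_left] at this
  · haveI : N.Normal := NormalizerCondition.normal_of_coatom N Group.normalizerCondition_of_isNilpotent hN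
    set M := N.comap (QuotientGroup.mk' W) with hM
    have hWM : W ≤ M := fun w hw => hle ⟨w, mem_sup_left hw, rfl⟩
    have hdM : dif x k ≤ M := fun d hd => hle ⟨d, mem_sup_right hd, rfl⟩
    have hMne : M ≠ ⊤ := fun h => hN.1 (top_le_iff.mp fun a _ => by
      induction a using QuotientGroup.induction_on with
      | _ g => exact (h ▸ mem_top g : g ∈ M))
    refine hMne (top_le_iff.mp (hT ▸ brk_top_le (N := M) (top_le_iff.mp ?_)))
    rw [← hk]
    exact sup_le (le_tsub hW hWM) (orb_le_tsub hdM)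

theorem ok_of_dif_top {k : H} (h : dif x k = ⊤) : Ok x := fun c hc =>
  dif_le_sig_of (h := k) (h ▸ mem_top c) hc.2

theorem brk_dif_le_invSyl {k : H} (hk : k ∈ invSyl x) : ∃ q : ℕ, q.Prime ∧ IsPGroup q (orb x k) ∧
    IsPGroup q (dif x k) := by
  obtain ⟨q, hq, Q, hQ, hk⟩ := hk
  exact ⟨q, hq, Q.2.to_le (orb_le hQ hk),
    Q.2.to_le ((dif_le_brk (P := ((Q : Subgroup H) : Set H)) hk).trans (brk_le_self hQ))⟩

/-- A minimal invariant normal subgroup. -/
structure MinInv (x : MulAut H) (V : Subgroup H) : Prop where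
  normal : V.Normal
  inv : Inv x V
  ne_bot : V ≠ ⊥
  min : ∀ U : Subgroup H, U.Normal → Inv x U → U ≤ V → U = ⊥ ∨ U = V

theorem exists_minInv {N : Subgroup H} (hn : N.Normal) (hi : Inv x N) (hne : N ≠ ⊥) :
    ∃ V ≤ N, MinInv x V := by
  obtain ⟨V, ⟨⟨h1, h2, h3, h4⟩, hmin⟩⟩ := Set.Finite.exists_minimal
    (s := {U : Subgroup H | U.Normal ∧ Inv x U ∧ U ≠ ⊥ ∧ U ≤ N}) (Set.toFinite _) ⟨N, hn, hi, hne, le_rfl⟩
  refine ⟨V, h4, ⟨h1, h2, h3, fun U hUn hUi hUV => ?_⟩⟩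
  by_cases hU : U = ⊥
  · exact Or.inl hU
  · exact Or.inr (le_antisymm hUV (hmin ⟨hUn, hUi, hU, hUV.trans h4⟩ hUV))

theorem MinInv.comm [Group.IsSolvable H] {V : Subgroup H} (hV : MinInv x V) : IsMulCommutative V := by
  haveI := hV.normal
  rcases hV.min ⁅V, V⁆ inferInstance (hV.inv.commutator hV.inv) (commutator_le_left V V) with h | h
  · exact le_centralizer_iff_isMulCommutative.mp (commutator_eq_bot_iff_le_centralizer.mp h)
  · exact absurd h (Group.IsSolvable.commutator_lt_of_ne_bot hV.ne_bot).ne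

theorem MinInv.exponent [Group.IsSolvable H] {V : Subgroup H} (hV : MinInv x V) :
    ∃ r : ℕ, r.Prime ∧ ∀ v ∈ V, v ^ r = 1 := by
  haveI := hV.normal
  haveI := hV.comm
  have hc : Nat.card V ≠ 1 := fun h => hV.ne_bot (eq_bot_of_card_eq V h)
  obtain ⟨r, hr, hrd⟩ := Nat.exists_prime_and_dvd hc
  haveI := Fact.mk hr
  refine ⟨r, hr, ?_⟩
  set U : Subgroup H := (powMonoidHom r : V →* V).ker.map V.subtype with hU
  have hmem : ∀ u, u ∈ U ↔ u ∈ V ∧ u ^ r = 1 := fun u =>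
    ⟨fun ⟨v, hv, e⟩ => e ▸ ⟨v.2, by
      have h1 : v ^ r = 1 := hv
      simpa using congrArg V.subtype h1⟩,
    fun ⟨h1, h2⟩ => ⟨⟨u, h1⟩, Subtype.ext h2, rfl⟩⟩
  have hUn : U.Normal := ⟨fun u hu g => (hmem _).mpr ⟨hV.normal.conj_mem u ((hmem u).mp hu).1 g, by
    rw [← MulAut.conj_apply, ← map_pow, ((hmem u).mp hu).2, map_one]⟩⟩
  have hUi : Inv x U := fun u hu => (hmem _).mpr
    ⟨hV.inv u ((hmem u).mp hu).1, by rw [← map_pow, ((hmem u).mp hu).2, map_one]⟩
  rcases hV.min U hUn hUi (map_subtype_le _) with h | h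
  · obtain ⟨v, hv⟩ := exists_prime_orderOf_dvd_card' (G := V) r hrd
    have : (v : H) ∈ U := (hmem _).mpr ⟨v.2, by
      rw [← SubmonoidClass.coe_pow, ← hv, pow_orderOf_eq_one, OneMemClass.coe_one]⟩
    rw [h, mem_bot, OneMemClass.coe_eq_one] at this
    rw [this, orderOf_one] at hv
    exact absurd hv.symm hr.ne_one
  · exact fun v hv => ((hmem v).mp (h ▸ hv)).2

/-- A subgroup `V = ⁅V, ⊤⁆` of a nilpotent group is trivial; relative form. -/
theorem eq_bot_of_commutator_eq {F V : Subgroup H} [Group.IsNilpotent F] (hle : V ≤ F) (h : ⁅V, F⁆ = V) : V = ⊥ := by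
  obtain ⟨n, hn⟩ := (isNilpotent_iff_lowerCentralSeries (S := F)).mp inferInstance
  have : ∀ m, V ≤ F.lowerCentralSeries m := fun m => by
    induction m with
    | zero => exact hle
    | succ m ih => rw [Subgroup.lowerCentralSeries_succ, ← h]; exact commutator_mono ih le_rfl
  exact le_bot_iff.mp (hn ▸ this n)

end CfsgLib.FixGen
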